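import Groth.Agent.Lib.FlatLimit.Core
import Mathlib.RingTheory.IsTensorProduct

/-!
# Pointwise flatness along stages, for modules over finitely presented algebras
-/

universe u v

namespace GrothLib.FlatLimit

open TensorProduct Function MvPolynomial GrothLib.FibreFlat

attribute [local instance] MvPolynomial.algebraMvPolynomial

/-- Localised flatness through a surjection of rings. -/
theorem flat_localized_surjective {R C B M : Type u} [CommRing R] [CommRing C] [CommRing B]
    [Algebra R C] [Algebra R B] [Algebra C B] [IsScalarTower R C B] [AddCommGroup M] [Module B M]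
    [Module C M] [IsScalarTower C B M] [Module R M] [IsScalarTower R B M] [IsScalarTower R C M]
    (hsurj : Surjective (algebraMap C B)) (q : Ideal B) [q.IsPrime] :
    Module.Flat R (LocalizedModule (q.comap (algebraMap C B)).primeCompl M) ↔
      Module.Flat R (LocalizedModule q.primeCompl M) := by
  let P := q.comap (algebraMap C B)
  let ι : M →ₗ[C] LocalizedModule q.primeCompl M :=
    (LocalizedModule.mkLinearMap q.primeCompl M).restrictScalars C
  haveI : IsLocalizedModule P.primeCompl ι := by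
    refine ⟨fun t => ?_, fun y => ?_, fun {a b} hab => ?_⟩
    · have hu := IsLocalizedModule.map_units (S := q.primeCompl)
        (LocalizedModule.mkLinearMap q.primeCompl M) ⟨algebraMap C B t, t.2⟩
      rw [Module.End.isUnit_iff] at hu ⊢
      convert hu using 1
      funext x
      simp only [Module.algebraMap_end_apply]
      exact (algebraMap_smul B (t : C) x).symm
    · obtain ⟨⟨x, s⟩, hs⟩ := IsLocalizedModule.surj q.primeCompl
        (LocalizedModule.mkLinearMap q.primeCompl M) y
      obtain ⟨t, ht⟩ := hsurj (s : B)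
      refine ⟨⟨x, ⟨t, show algebraMap C B t ∉ q from ht ▸ s.2⟩⟩, ?_⟩
      show t • y = (LocalizedModule.mkLinearMap q.primeCompl M) x
      rw [← algebraMap_smul B t y, ht]
      exact hs
    · obtain ⟨s, hs⟩ := (IsLocalizedModule.eq_iff_exists q.primeCompl
        (LocalizedModule.mkLinearMap q.primeCompl M)).mp hab
      obtain ⟨t, ht⟩ := hsurj (s : B)
      refine ⟨⟨t, show algebraMap C B t ∉ q from ht ▸ s.2⟩, ?_⟩
      show t • a = t • b
      rw [← algebraMap_smul B t a, ← algebraMap_smul B t b, ht]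
      exact hs
  let e := (IsLocalizedModule.linearEquiv P.primeCompl
    (LocalizedModule.mkLinearMap P.primeCompl M) ι).restrictScalars R
  exact ⟨fun _ => Module.Flat.of_linearEquiv e.symm, fun _ => Module.Flat.of_linearEquiv e⟩

section

variable {A₀ : Type u} [CommRing A₀] {B₀ : Type u} [CommRing B₀] [Algebra A₀ B₀] {m : ℕ}
  (π : MvPolynomial (Fin m) A₀ →ₐ[A₀] B₀) (hπ : Surjective π)
  (M₀ : Type u) [AddCommGroup M₀] [Module B₀ M₀] [Module A₀ M₀] [IsScalarTower A₀ B₀ M₀]
  [Module (MvPolynomial (Fin m) A₀) M₀] [IsScalarTower A₀ (MvPolynomial (Fin m) A₀) M₀]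
  (hM : ∀ (c : MvPolynomial (Fin m) A₀) (x : M₀), c • x = π c • x)
  {T BT : Type u} [CommRing T] [Algebra A₀ T] [CommRing BT] [Algebra A₀ BT] [Algebra T BT]
  [Algebra B₀ BT] [IsScalarTower A₀ T BT] [IsScalarTower A₀ B₀ BT] [Algebra.IsPushout A₀ T B₀ BT]

/-- The presentation of a base change. -/
noncomputable def presT : MvPolynomial (Fin m) T →ₐ[T] BT :=
  MvPolynomial.aeval fun i => algebraMap B₀ BT (π (X i))

omit [Algebra.IsPushout A₀ T B₀ BT] in
theorem presT_map (c : MvPolynomial (Fin m) A₀) :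
    presT π (T := T) (BT := BT) (MvPolynomial.map (algebraMap A₀ T) c) = algebraMap B₀ BT (π c) := by
  rw [presT, MvPolynomial.aeval_map_algebraMap]
  exact AlgHom.congr_fun (MvPolynomial.algHom_ext (f := MvPolynomial.aeval _)
    (g := (IsScalarTower.toAlgHom A₀ B₀ BT).comp π) fun i => by simp) c

include hπ in
theorem presT_surjective : Surjective (presT π (T := T) (BT := BT)) := by
  intro b
  obtain ⟨z, rfl⟩ := (Algebra.IsPushout.equiv A₀ T B₀ BT).surjective b
  induction z using TensorProduct.induction_on with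
  | zero => exact ⟨0, by simp⟩
  | add x y hx hy =>
    obtain ⟨a, ha⟩ := hx
    obtain ⟨c, hc⟩ := hy
    exact ⟨a + c, by rw [map_add, map_add, ha, hc]⟩
  | tmul t b₀ =>
    obtain ⟨c, rfl⟩ := hπ b₀
    refine ⟨C t * MvPolynomial.map (algebraMap A₀ T) c, ?_⟩
    rw [map_mul, presT_map, Algebra.IsPushout.equiv_tmul, ← MvPolynomial.algebraMap_eq, AlgHom.commutes]

include hπ hM in
/-- Flatness of `BT ⊗ M₀` at a prime, read on the polynomial ring. -/
theorem flat_localized_pushout_iff (q : Ideal BT) [q.IsPrime] :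
    Module.Flat T (LocalizedModule q.primeCompl (BT ⊗[B₀] M₀)) ↔
      Module.Flat T (LocalizedModule (q.comap (presT π (T := T)).toRingHom).primeCompl
        (MvPolynomial (Fin m) T ⊗[MvPolynomial (Fin m) A₀] M₀)) := by
  let C₀ := MvPolynomial (Fin m) A₀
  let C := MvPolynomial (Fin m) T
  letI : Algebra C BT := (presT π (T := T)).toRingHom.toAlgebra
  haveI : IsScalarTower T C BT := IsScalarTower.of_algebraMap_eq fun t =>
    ((presT π (T := T)).commutes t).symm
  haveI : SMulCommClass B₀ C BT := ⟨fun a b x => by simp [Algebra.smul_def, mul_left_comm]⟩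
  haveI : SMulCommClass B₀ T BT := ⟨fun a b x => by simp [Algebra.smul_def, mul_left_comm]⟩
  let N := BT ⊗[B₀] M₀
  haveI : IsScalarTower C BT N := TensorProduct.isScalarTower_left
  letI : Module C₀ N := Module.compHom N (algebraMap C₀ C)
  haveI : IsScalarTower C₀ C N := IsScalarTower.of_algebraMap_smul fun _ _ => rfl
  let j : M₀ →ₗ[C₀] N :=
    { toFun := fun x => 1 ⊗ₜ x
      map_add' := fun x y => tmul_add _ x y
      map_smul' := fun c x => by
        show (1 : BT) ⊗ₜ[B₀] (c • x) = algebraMap C BT (MvPolynomial.map (algebraMap A₀ T) c) • ((1 : BT) ⊗ₜ[B₀] x)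
        rw [hM, tmul_smul, smul_tmul', smul_tmul', Algebra.smul_def]
        congr 2
        exact (presT_map π c).symm }
  let θ : C ⊗[C₀] M₀ →ₗ[C] N := j.liftBaseChange C
  have hθ : (θ.restrictScalars T) ∘ₗ (cancel (m := m) M₀ T).symm.toLinearMap =
      (Algebra.IsPushout.cancelBaseChange A₀ T B₀ BT M₀).symm.toLinearMap := by
    refine TensorProduct.AlgebraTensorModule.ext fun t x => ?_
    simp only [cancel, LinearMap.comp_apply, LinearEquiv.coe_coe,
      Algebra.IsPushout.cancelBaseChange_symm_tmul, LinearMap.coe_restrictScalars, θ,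
      LinearMap.liftBaseChange_tmul]
    show (algebraMap T C t) • ((1 : BT) ⊗ₜ[B₀] x) = _
    rw [smul_tmul']
    congr 1
    rw [Algebra.smul_def, mul_one, ← IsScalarTower.algebraMap_apply]
  have hbij : Bijective θ := by
    have : Bijective ((θ.restrictScalars T) ∘ₗ (cancel (m := m) M₀ T).symm.toLinearMap) := by
      rw [hθ]
      exact (Algebra.IsPushout.cancelBaseChange A₀ T B₀ BT M₀).symm.bijective
    exact (Function.Bijective.of_comp_iff _ (cancel (m := m) M₀ T).symm.bijective).mp this
  let e := LinearEquiv.ofBijective θ hbij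
  let P := q.comap (algebraMap C BT)
  rw [← flat_localized_surjective (C := C) (presT_surjective π hπ) q]
  exact ⟨fun _ => flat_localized_congr (R := T) P.primeCompl e.symm,
    fun _ => flat_localized_congr (R := T) P.primeCompl e⟩

end

section

variable {A₀ A : Type u} [CommRing A₀] [CommRing A] [Algebra A₀ A]
  {B₀ : Type u} [CommRing B₀] [Algebra A₀ B₀] [Algebra.FinitePresentation A₀ B₀]
  (M₀ : Type u) [AddCommGroup M₀] [Module B₀ M₀] [Module A₀ M₀] [IsScalarTower A₀ B₀ M₀]
  {B : Type u} [CommRing B] [Algebra A₀ B] [Algebra A B] [Algebra B₀ B]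
  [IsScalarTower A₀ A B] [IsScalarTower A₀ B₀ B] [Algebra.IsPushout A₀ A B₀ B]

/-- **Flatness at a prime over a stage passes to the limit.** -/
theorem flat_at_of_stage {S : Type u} [CommRing S] [Algebra A₀ S] [Algebra S A]
    [IsScalarTower A₀ S A] {BS : Type u} [CommRing BS] [Algebra A₀ BS] [Algebra S BS]
    [Algebra B₀ BS] [IsScalarTower A₀ S BS] [IsScalarTower A₀ B₀ BS] [Algebra.IsPushout A₀ S B₀ BS]
    (β : BS →+* B) (hβS : ∀ s, β (algebraMap S BS s) = algebraMap A B (algebraMap S A s))
    (hβB : ∀ b, β (algebraMap B₀ BS b) = algebraMap B₀ B b) (q : Ideal B) [q.IsPrime]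
    (h : Module.Flat S (LocalizedModule (q.comap β).primeCompl (BS ⊗[B₀] M₀))) :
    Module.Flat A (LocalizedModule q.primeCompl (B ⊗[B₀] M₀)) := by
  obtain ⟨m, π, hπ, -⟩ := ‹Algebra.FinitePresentation A₀ B₀›.out
  letI : Module (MvPolynomial (Fin m) A₀) M₀ := Module.compHom M₀ π.toRingHom
  haveI : IsScalarTower A₀ (MvPolynomial (Fin m) A₀) M₀ := IsScalarTower.of_algebraMap_smul
    fun r x => by
      show π (algebraMap A₀ _ r) • x = r • x
      rw [π.commutes, algebraMap_smul]
  have hM : ∀ (c : MvPolynomial (Fin m) A₀) (x : M₀), c • x = π c • x := fun _ _ => rfl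
  rw [flat_localized_pushout_iff π hπ M₀ hM] at h ⊢
  have key : (q.comap (presT π (T := A)).toRingHom).comap (MvPolynomial.map (algebraMap S A)) =
      (q.comap β).comap (presT π (T := S)).toRingHom := by
    rw [Ideal.comap_comap, Ideal.comap_comap]
    congr 1
    refine MvPolynomial.ringHom_ext (fun s => ?_) fun i => ?_
    · simp [presT, hβS]
    · simp [presT, hβB]
  let P := q.comap (presT π (T := A)).toRingHom
  let N := MvPolynomial (Fin m) S ⊗[MvPolynomial (Fin m) A₀] M₀
  have h' : ∀ (Q : Ideal (MvPolynomial (Fin m) S)) [Q.IsPrime],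
      Q = (q.comap β).comap (presT π (T := S)).toRingHom →
        Module.Flat S (LocalizedModule Q.primeCompl N) := by
    rintro Q _ rfl
    exact h
  haveI := h' _ key
  exact flat_of_stage
    (LS := LocalizedModule (P.comap (MvPolynomial.map (algebraMap S A))).primeCompl N)
    (L := LocalizedModule P.primeCompl (MvPolynomial (Fin m) A ⊗[MvPolynomial (Fin m) A₀] M₀))
    M₀ S A P (LocalizedModule.mkLinearMap _ N) (LocalizedModule.mkLinearMap P.primeCompl _)

variable {ι : Type v} (G : ι → Type u) [∀ i, CommRing (G i)] [∀ i, Algebra A₀ (G i)]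
  [∀ i, Algebra (G i) A] [∀ i, IsScalarTower A₀ (G i) A]

set_option maxHeartbeats 1000000 in
/-- **Flatness at a prime comes from a stage**, for a module over a finitely presented algebra. -/
theorem exists_stage_flat_at'
    (hlift : ∀ T : Finset A, ∃ i, (T : Set A) ⊆ Set.range (algebraMap (G i) A))
    (heq : ∀ i (p : Finset (G i × G i)),
      (∀ x ∈ p, algebraMap (G i) A x.1 = algebraMap (G i) A x.2) →
      ∃ j, ∃ ψ : G i →ₐ[A₀] G j, (∀ x, algebraMap (G j) A (ψ x) = algebraMap (G i) A x) ∧
        ∀ x ∈ p, ψ x.1 = ψ x.2)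
    [Module.FinitePresentation B₀ M₀] (q : Ideal B) [q.IsPrime]
    (h : Module.Flat A (LocalizedModule q.primeCompl (B ⊗[B₀] M₀))) :
    ∃ i, ∀ (Bi : Type u) [CommRing Bi] [Algebra A₀ Bi] [Algebra (G i) Bi] [Algebra B₀ Bi]
      [IsScalarTower A₀ (G i) Bi] [IsScalarTower A₀ B₀ Bi] [Algebra.IsPushout A₀ (G i) B₀ Bi]
      (β : Bi →+* B),
      (∀ s, β (algebraMap (G i) Bi s) = algebraMap A B (algebraMap (G i) A s)) →
      (∀ b, β (algebraMap B₀ Bi b) = algebraMap B₀ B b) →
        Module.Flat (G i) (LocalizedModule (q.comap β).primeCompl (Bi ⊗[B₀] M₀)) := by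
  obtain ⟨m, π, hπ, hker⟩ := ‹Algebra.FinitePresentation A₀ B₀›.out
  let C₀ := MvPolynomial (Fin m) A₀
  letI : Algebra C₀ B₀ := π.toRingHom.toAlgebra
  haveI : IsScalarTower A₀ C₀ B₀ := IsScalarTower.of_algebraMap_eq fun r => (π.commutes r).symm
  letI : Module C₀ M₀ := Module.compHom M₀ (algebraMap C₀ B₀)
  haveI : IsScalarTower C₀ B₀ M₀ := IsScalarTower.of_algebraMap_smul fun _ _ => rfl
  haveI : IsScalarTower A₀ C₀ M₀ := IsScalarTower.of_algebraMap_smul fun r x => by
    show π (algebraMap A₀ C₀ r) • x = r • x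
    rw [π.commutes, algebraMap_smul]
  haveI : Module.FinitePresentation C₀ B₀ := Module.finitePresentation_of_surjective
    (Algebra.linearMap C₀ B₀) hπ hker
  haveI : Module.FinitePresentation C₀ M₀ := Module.FinitePresentation.trans C₀ M₀ B₀
  have hM : ∀ (c : C₀) (x : M₀), c • x = π c • x := fun _ _ => rfl
  haveI := (flat_localized_pushout_iff π hπ M₀ hM q).mp h
  obtain ⟨i, hi⟩ := exists_stage_flat_at G hlift heq (m := m) M₀
    (q.comap (presT π (T := A)).toRingHom)
  refine ⟨i, fun Bi _ _ _ _ _ _ _ β hβS hβB => ?_⟩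
  rw [flat_localized_pushout_iff π hπ M₀ hM]
  have key : (q.comap (presT π (T := A)).toRingHom).comap (MvPolynomial.map (algebraMap (G i) A)) =
      (q.comap β).comap (presT π (T := G i)).toRingHom := by
    rw [Ideal.comap_comap, Ideal.comap_comap]
    congr 1
    refine MvPolynomial.ringHom_ext (fun s => ?_) fun l => ?_
    · simp [presT, hβS]
    · simp [presT, hβB]
  have h' : ∀ (Q : Ideal (MvPolynomial (Fin m) (G i))) [Q.IsPrime],
      Q = (q.comap (presT π (T := A)).toRingHom).comap (MvPolynomial.map (algebraMap (G i) A)) →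
        Module.Flat (G i) (LocalizedModule Q.primeCompl
          (MvPolynomial (Fin m) (G i) ⊗[MvPolynomial (Fin m) A₀] M₀)) := by
    rintro Q _ rfl
    exact hi
  exact h' _ key.symm

end

end GrothLib.FlatLimit
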