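import Groth.Agent.Lib.FlatFP.PullbackFlat
import Groth.Agent.Lib.FlatLimit.Pointwise
import Mathlib.AlgebraicGeometry.Morphisms.Flat
import Mathlib.AlgebraicGeometry.Morphisms.FinitePresentation
import Mathlib.Algebra.Category.Ring.Constructions

/-!
# Flatness of a pullback of a module along affine base changes
-/

set_option autoImplicit false
set_option backward.isDefEq.respectTransparency false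
universe u

open CategoryTheory AlgebraicGeometry TensorProduct

namespace GrothLib.FlatLimit

variable {X₀ Y₀ Xi Yi : Scheme.{u}} {f₀ : X₀ ⟶ Y₀} {fi : Xi ⟶ Yi} {pY : Yi ⟶ Y₀} {pX : Xi ⟶ X₀}
  (h : IsPullback pX fi f₀ pY) {V₀ : Y₀.Opens} {Vi : Yi.Opens} {U₀ : X₀.Opens}
  (eV : Vi ≤ pY ⁻¹ᵁ V₀) (eU : U₀ ≤ f₀ ⁻¹ᵁ V₀)

include h eV eU in
theorem isAffineOpen_square (hV₀ : IsAffineOpen V₀) (hVi : IsAffineOpen Vi)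
    (hU₀ : IsAffineOpen U₀) : IsAffineOpen (pX ⁻¹ᵁ U₀ ⊓ fi ⁻¹ᵁ Vi) := by
  haveI : IsAffine _ := hV₀
  haveI : IsAffine _ := hVi
  haveI : IsAffine _ := hU₀
  exact .of_isIso (Scheme.Hom.isPullback_resLE h eV eU rfl).isoPullback.hom

include h in
/-- Sections of a base change form a pushout square. -/
theorem isPushout_square (hV₀ : IsAffineOpen V₀) (hVi : IsAffineOpen Vi) (hU₀ : IsAffineOpen U₀)
    [Algebra Γ(Y₀, V₀) Γ(Yi, Vi)] (h1 : algebraMap Γ(Y₀, V₀) Γ(Yi, Vi) = (pY.appLE V₀ Vi eV).hom)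
    [Algebra Γ(Y₀, V₀) Γ(X₀, U₀)] (h2 : algebraMap Γ(Y₀, V₀) Γ(X₀, U₀) = (f₀.appLE V₀ U₀ eU).hom)
    [Algebra Γ(Yi, Vi) Γ(Xi, pX ⁻¹ᵁ U₀ ⊓ fi ⁻¹ᵁ Vi)]
    (h3 : algebraMap Γ(Yi, Vi) Γ(Xi, pX ⁻¹ᵁ U₀ ⊓ fi ⁻¹ᵁ Vi) = (fi.appLE Vi _ inf_le_right).hom)
    [Algebra Γ(X₀, U₀) Γ(Xi, pX ⁻¹ᵁ U₀ ⊓ fi ⁻¹ᵁ Vi)]
    (h4 : algebraMap Γ(X₀, U₀) Γ(Xi, pX ⁻¹ᵁ U₀ ⊓ fi ⁻¹ᵁ Vi) = (pX.appLE U₀ _ inf_le_left).hom)
    [Algebra Γ(Y₀, V₀) Γ(Xi, pX ⁻¹ᵁ U₀ ⊓ fi ⁻¹ᵁ Vi)]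
    [IsScalarTower Γ(Y₀, V₀) Γ(Yi, Vi) Γ(Xi, pX ⁻¹ᵁ U₀ ⊓ fi ⁻¹ᵁ Vi)]
    [IsScalarTower Γ(Y₀, V₀) Γ(X₀, U₀) Γ(Xi, pX ⁻¹ᵁ U₀ ⊓ fi ⁻¹ᵁ Vi)] :
    Algebra.IsPushout Γ(Y₀, V₀) Γ(Yi, Vi) Γ(X₀, U₀) Γ(Xi, pX ⁻¹ᵁ U₀ ⊓ fi ⁻¹ᵁ Vi) := by
  refine CommRingCat.isPushout_iff_isPushout.mp ?_
  rw [h1, h2, h3, h4]
  exact ((isIso_pushoutSection_iff h eV eU rfl).mp
    (isIso_pushoutSection_of_isAffineOpen h eV eU rfl hV₀ hVi hU₀)).flip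

set_option maxHeartbeats 1000000 in
/-- **Flatness at a point of a stage passes to every affine base change.** -/
theorem flatAt_of_stage {X Y : Scheme.{u}} {f : X ⟶ Y} {qY : Y ⟶ Y₀} {qX : X ⟶ X₀}
    (hi : IsPullback pX fi f₀ pY) (hq : IsPullback qX f f₀ qY) [IsAffineHom pY] [IsAffineHom qY]
    [LocallyOfFinitePresentation f₀] (F₀ : X₀.Modules) [F₀.IsQuasicoherent]
    (vY : Y ⟶ Yi) (vX : X ⟶ Xi) (e1 : vY ≫ pY = qY) (e2 : vX ≫ pX = qX) (e3 : vX ≫ fi = f ≫ vY)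
    (x : X) (hflat : FlatMod.IsFlatOverAt fi ((Scheme.Modules.pullback pX).obj F₀) (vX x)) :
    FlatMod.IsFlatOverAt f ((Scheme.Modules.pullback qX).obj F₀) x := by
  obtain ⟨V₀, hV₀, hyV, -⟩ :=
    exists_isAffineOpen_mem_and_subset (show qY (f x) ∈ (⊤ : Y₀.Opens) from trivial)
  have hmem : qX x ∈ f₀ ⁻¹ᵁ V₀ := by
    show f₀ (qX x) ∈ V₀
    rw [← Scheme.Hom.comp_apply, hq.w]
    exact hyV
  obtain ⟨U₀, hU₀, hxU, eU⟩ := exists_isAffineOpen_mem_and_subset hmem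
  let Vi := pY ⁻¹ᵁ V₀
  let VA := qY ⁻¹ᵁ V₀
  let Ui := pX ⁻¹ᵁ U₀ ⊓ fi ⁻¹ᵁ Vi
  let U := qX ⁻¹ᵁ U₀ ⊓ f ⁻¹ᵁ VA
  have hVi : IsAffineOpen Vi := hV₀.preimage pY
  have hVA : IsAffineOpen VA := hV₀.preimage qY
  have hUi : IsAffineOpen Ui := isAffineOpen_square hi le_rfl eU hV₀ hVi hU₀
  have hU : IsAffineOpen U := isAffineOpen_square hq le_rfl eU hV₀ hVA hU₀
  have hx : x ∈ U := ⟨hxU, hyV⟩
  have eVA : VA ≤ vY ⁻¹ᵁ Vi := by rw [← Scheme.Hom.comp_preimage, e1]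
  have eUi : U ≤ vX ⁻¹ᵁ Ui := by
    rw [Scheme.Hom.preimage_inf, ← Scheme.Hom.comp_preimage, ← Scheme.Hom.comp_preimage, e2, e3,
      Scheme.Hom.comp_preimage f vY]
    exact inf_le_inf le_rfl (f.preimage_mono eVA)
  letI : Algebra Γ(Y₀, V₀) Γ(Yi, Vi) := (pY.appLE V₀ Vi le_rfl).hom.toAlgebra
  letI : Algebra Γ(Y₀, V₀) Γ(Y, VA) := (qY.appLE V₀ VA le_rfl).hom.toAlgebra
  letI : Algebra Γ(Y₀, V₀) Γ(X₀, U₀) := (f₀.appLE V₀ U₀ eU).hom.toAlgebra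
  letI : Algebra Γ(Yi, Vi) Γ(Xi, Ui) := (fi.appLE Vi Ui inf_le_right).hom.toAlgebra
  letI : Algebra Γ(Y, VA) Γ(X, U) := (f.appLE VA U inf_le_right).hom.toAlgebra
  letI : Algebra Γ(X₀, U₀) Γ(Xi, Ui) := (pX.appLE U₀ Ui inf_le_left).hom.toAlgebra
  letI : Algebra Γ(X₀, U₀) Γ(X, U) := (qX.appLE U₀ U inf_le_left).hom.toAlgebra
  letI : Algebra Γ(Yi, Vi) Γ(Y, VA) := (vY.appLE Vi VA eVA).hom.toAlgebra
  letI : Algebra Γ(Y₀, V₀) Γ(Xi, Ui) :=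
    ((algebraMap Γ(Yi, Vi) Γ(Xi, Ui)).comp (algebraMap Γ(Y₀, V₀) Γ(Yi, Vi))).toAlgebra
  letI : Algebra Γ(Y₀, V₀) Γ(X, U) :=
    ((algebraMap Γ(Y, VA) Γ(X, U)).comp (algebraMap Γ(Y₀, V₀) Γ(Y, VA))).toAlgebra
  haveI : IsScalarTower Γ(Y₀, V₀) Γ(Yi, Vi) Γ(Xi, Ui) := IsScalarTower.of_algebraMap_eq' rfl
  haveI : IsScalarTower Γ(Y₀, V₀) Γ(Y, VA) Γ(X, U) := IsScalarTower.of_algebraMap_eq' rfl
  haveI : IsScalarTower Γ(Y₀, V₀) Γ(Yi, Vi) Γ(Y, VA) := IsScalarTower.of_algebraMap_eq' (by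
    show (qY.appLE V₀ VA _).hom = (vY.appLE Vi VA eVA).hom.comp (pY.appLE V₀ Vi _).hom
    rw [← CommRingCat.hom_comp, Scheme.Hom.appLE_comp_appLE]
    simp only [e1])
  haveI : IsScalarTower Γ(Y₀, V₀) Γ(X₀, U₀) Γ(Xi, Ui) := IsScalarTower.of_algebraMap_eq' (by
    show (fi.appLE Vi Ui _).hom.comp (pY.appLE V₀ Vi _).hom =
      (pX.appLE U₀ Ui _).hom.comp (f₀.appLE V₀ U₀ _).hom
    rw [← CommRingCat.hom_comp, ← CommRingCat.hom_comp, Scheme.Hom.appLE_comp_appLE,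
      Scheme.Hom.appLE_comp_appLE]
    simp only [hi.w])
  haveI : IsScalarTower Γ(Y₀, V₀) Γ(X₀, U₀) Γ(X, U) := IsScalarTower.of_algebraMap_eq' (by
    show (f.appLE VA U _).hom.comp (qY.appLE V₀ VA _).hom =
      (qX.appLE U₀ U _).hom.comp (f₀.appLE V₀ U₀ _).hom
    rw [← CommRingCat.hom_comp, ← CommRingCat.hom_comp, Scheme.Hom.appLE_comp_appLE,
      Scheme.Hom.appLE_comp_appLE]
    simp only [hq.w])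
  haveI : Algebra.IsPushout Γ(Y₀, V₀) Γ(Yi, Vi) Γ(X₀, U₀) Γ(Xi, Ui) :=
    isPushout_square hi le_rfl eU hV₀ hVi hU₀ rfl rfl rfl rfl
  haveI : Algebra.IsPushout Γ(Y₀, V₀) Γ(Y, VA) Γ(X₀, U₀) Γ(X, U) :=
    isPushout_square hq le_rfl eU hV₀ hVA hU₀ rfl rfl rfl rfl
  haveI : Algebra.FinitePresentation Γ(Y₀, V₀) Γ(X₀, U₀) :=
    HasRingHomProperty.appLE @LocallyOfFinitePresentation f₀ ‹_› ⟨V₀, hV₀⟩ ⟨U₀, hU₀⟩ eU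
  letI : Module Γ(Y₀, V₀) Γ(F₀, U₀) := Module.compHom _ (algebraMap Γ(Y₀, V₀) Γ(X₀, U₀))
  haveI : IsScalarTower Γ(Y₀, V₀) Γ(X₀, U₀) Γ(F₀, U₀) :=
    IsScalarTower.of_algebraMap_smul fun _ _ => rfl
  rw [FlatFP.isFlatOverAt_pullback_iff f qX F₀ hU₀ hVA hU inf_le_left inf_le_right hx rfl rfl]
  rw [FlatFP.isFlatOverAt_pullback_iff fi pX F₀ hU₀ hVi hUi inf_le_left inf_le_right (eUi hx)
    rfl rfl] at hflat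
  refine flat_at_of_stage (A₀ := Γ(Y₀, V₀)) (A := Γ(Y, VA)) (B₀ := Γ(X₀, U₀)) (B := Γ(X, U))
    (S := Γ(Yi, Vi)) (BS := Γ(Xi, Ui)) Γ(F₀, U₀) (vX.appLE Ui U eUi).hom
    (fun s => ?_) (fun b => ?_) _ ?_
  · show (fi.appLE Vi Ui _ ≫ vX.appLE Ui U eUi) s = (vY.appLE Vi VA eVA ≫ f.appLE VA U _) s
    rw [Scheme.Hom.appLE_comp_appLE, Scheme.Hom.appLE_comp_appLE]
    simp only [e3]
  · show (pX.appLE U₀ Ui _ ≫ vX.appLE Ui U eUi) b = qX.appLE U₀ U _ b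
    rw [Scheme.Hom.appLE_comp_appLE]
    simp only [e2]
  · exact FlatFP.flat_localized_prime_congr (AssPts.comap_primeAt vX eUi hx).symm hflat

end GrothLib.FlatLimit
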