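import Groth.Agent.Lib.FlatLimit.Geometric
import Groth.Agent.Lib.LimDesc.Basic

/-!
# Flatness of a module at a point of the limit comes from a stage
-/

set_option autoImplicit false
set_option backward.isDefEq.respectTransparency false
set_option linter.style.haveILetI false
universe u

open CategoryTheory Limits AlgebraicGeometry TensorProduct

noncomputable section

namespace GrothLib.FlatLimit

open GrothLib.LimDesc

theorem appLE_restrict {A B : Scheme.{u}} (f : A ⟶ B) {U : B.Opens} {V V' : A.Opens}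
    (e : V ≤ f ⁻¹ᵁ U) (h : V' ≤ V) (a : Γ(B, U)) :
    A.presheaf.map (homOfLE h).op (f.appLE U V e a) = f.appLE U V' (h.trans e) a := by
  rw [← ConcreteCategory.comp_apply, Scheme.Hom.appLE_map]

theorem appLE_map_apply {A B : Scheme.{u}} (f : A ⟶ B) {U U' : B.Opens} {V : A.Opens}
    (e : V ≤ f ⁻¹ᵁ U') (h : U' ≤ U) (a : Γ(B, U)) :
    f.appLE U' V e (B.presheaf.map (homOfLE h).op a) = f.appLE U V (e.trans (f.preimage_mono h)) a := by
  rw [← ConcreteCategory.comp_apply, Scheme.Hom.map_appLE]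

section Limit

variable {I : Type u} [SmallCategory I] [IsCofiltered I] (D : I ⥤ Scheme.{u}) (c : Cone D)
  (hc : IsLimit c) [∀ (i j : I) (f : i ⟶ j), IsAffineHom (D.map f)]

include hc in
/-- Sections on an affine open of the limit come from a stage. -/
theorem exists_appLE_π_eq {i : I} {U : (D.obj i).Opens} (hU : IsAffineOpen U)
    (s : Γ(c.pt, c.π.app i ⁻¹ᵁ U)) :
    ∃ (k : I) (φ : k ⟶ i) (e : c.π.app i ⁻¹ᵁ U ≤ c.π.app k ⁻¹ᵁ (D.map φ ⁻¹ᵁ U))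
      (t : Γ(D.obj k, D.map φ ⁻¹ᵁ U)), (c.π.app k).appLE _ _ e t = s := by
  haveI (j : Over i) : IsAffine ((opensDiagram D i U).obj j) := hU.preimage (D.map _)
  have H : (c.π.app i ⁻¹ᵁ U).ι ''ᵁ ⊤ = c.π.app i ⁻¹ᵁ U := by simp
  obtain ⟨j, t, ht⟩ := exists_appTop_π_eq_of_isAffine_of_isLimit (opensDiagram D i U) _
    (isLimitOpensCone D c hc i U) (c.pt.presheaf.map (eqToHom H).op s)
  have e : c.π.app i ⁻¹ᵁ U ≤ c.π.app j.left ⁻¹ᵁ (D.map j.hom ⁻¹ᵁ U) := by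
    rw [← Scheme.Hom.comp_preimage, c.w]
  refine ⟨j.left, j.hom, e,
    (D.obj j.left).presheaf.map (homOfLE (show D.map j.hom ⁻¹ᵁ U ≤
      (D.map j.hom ⁻¹ᵁ U).ι ''ᵁ ⊤ by simp)).op t, ?_⟩
  have key : ((c.π.app j.left).resLE (D.map j.hom ⁻¹ᵁ U) (c.π.app i ⁻¹ᵁ U) e).appTop ≫
      c.pt.presheaf.map (homOfLE H.ge).op =
      (D.obj j.left).presheaf.map (homOfLE (show D.map j.hom ⁻¹ᵁ U ≤
        (D.map j.hom ⁻¹ᵁ U).ι ''ᵁ ⊤ by simp)).op ≫ (c.π.app j.left).appLE _ _ e := by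
    simp [Scheme.Hom.app_eq_appLE, Scheme.Hom.resLE_appLE]
  refine (congr($key t)).symm.trans ((congrArg (c.pt.presheaf.map (homOfLE H.ge).op) ht).trans ?_)
  show (c.pt.presheaf.map (eqToHom H).op ≫ c.pt.presheaf.map (homOfLE H.ge).op) s = s
  rw [← Functor.map_comp]
  show c.pt.presheaf.map (𝟙 _) s = s
  simp

end Limit

variable {I : Type u} [SmallCategory I] [IsCofiltered I] (D : I ⥤ Scheme.{u}) {c : Cone D}
  (hc : IsLimit c) [∀ (i j : I) (f : i ⟶ j), IsAffineHom (D.map f)] {i₀ : I}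
  {X₀ Y₀ : Scheme.{u}} (f₀ : X₀ ⟶ Y₀) (g₀ : Y₀ ⟶ D.obj i₀) {X Y : Scheme.{u}} {f : X ⟶ Y}
  {g : Y ⟶ c.pt} {qY : Y ⟶ Y₀} {qX : X ⟶ X₀}
  (hY : IsPullback qY g g₀ (c.π.app i₀)) (hX : IsPullback qX f f₀ qY)

include hc hY in
theorem isAffineHom_of_limit : IsAffineHom qY := by
  haveI := isAffineHom_π_app D c hc i₀
  exact MorphismProperty.of_isPullback (P := @IsAffineHom) hY.flip inferInstance

set_option maxHeartbeats 2000000 in
include hc in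
/-- **Flatness of a finitely presented module at a point of the limit comes from a stage.** -/
theorem exists_stage_flatAt [LocallyOfFinitePresentation f₀] (F₀ : X₀.Modules)
    [F₀.IsQuasicoherent] (hF₀ : CohB1.IsFP F₀) (x : X)
    (hflat : FlatMod.IsFlatOverAt f ((Scheme.Modules.pullback qX).obj F₀) x) :
    ∃ j : Over i₀, FlatMod.IsFlatOverAt ((mapNat D i₀ g₀ (f₀ ≫ g₀) f₀ rfl).app j)
      ((Scheme.Modules.pullback (pullback.fst (f₀ ≫ g₀) (D.map j.hom))).obj F₀)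
      ((cone D i₀ (f₀ ≫ g₀) (hX.paste_vert hY)).π.app j x) := by
  classical
  haveI := isAffineHom_of_limit D hc g₀ hY
  let E := diag D i₀ g₀
  let cE := cone D i₀ g₀ hY
  have hE : IsLimit cE := isLimitCone D i₀ g₀ hY hc
  haveI (j k : Over i₀) (φ : j ⟶ k) : IsAffineHom (E.map φ) := isAffineHom_map D i₀ g₀ φ
  obtain ⟨V₀, hV₀, hyV, -⟩ :=
    exists_isAffineOpen_mem_and_subset (show qY (f x) ∈ (⊤ : Y₀.Opens) from trivial)
  have hmem : qX x ∈ f₀ ⁻¹ᵁ V₀ := by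
    show f₀ (qX x) ∈ V₀
    rw [← Scheme.Hom.comp_apply, hX.w]
    exact hyV
  obtain ⟨U₀, hU₀, hxU, eU⟩ := exists_isAffineOpen_mem_and_subset hmem
  let VA := qY ⁻¹ᵁ V₀
  let U := qX ⁻¹ᵁ U₀ ⊓ f ⁻¹ᵁ VA
  have hVA : IsAffineOpen VA := hV₀.preimage qY
  have hU : IsAffineOpen U := isAffineOpen_square hX le_rfl eU hV₀ hVA hU₀
  have hx : x ∈ U := ⟨hxU, hyV⟩
  let pY : ∀ j : Over i₀, E.obj j ⟶ Y₀ := fun j => pullback.fst g₀ (D.map j.hom)
  let Vj : ∀ j : Over i₀, (E.obj j).Opens := fun j => pY j ⁻¹ᵁ V₀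
  have hVj (j : Over i₀) : IsAffineOpen (Vj j) :=
    haveI := isAffineHom_fst D i₀ g₀ j
    hV₀.preimage _
  have hπ (j : Over i₀) : cE.π.app j ≫ pY j = qY := π_fst D i₀ g₀ hY j
  have eπ (j : Over i₀) : VA ≤ cE.π.app j ⁻¹ᵁ Vj j := by
    show _ ≤ cE.π.app j ⁻¹ᵁ (pY j ⁻¹ᵁ V₀)
    rw [← Scheme.Hom.comp_preimage, hπ]
  have eπ' (j : Over i₀) : cE.π.app j ⁻¹ᵁ Vj j ≤ VA := by
    show cE.π.app j ⁻¹ᵁ (pY j ⁻¹ᵁ V₀) ≤ _
    rw [← Scheme.Hom.comp_preimage, hπ]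
  have etr {k j : Over i₀} (φ : k ⟶ j) : Vj k ≤ E.map φ ⁻¹ᵁ Vj j := by
    show _ ≤ E.map φ ⁻¹ᵁ (pY j ⁻¹ᵁ V₀)
    rw [← Scheme.Hom.comp_preimage, map_fst]
  letI : Algebra Γ(Y₀, V₀) Γ(Y, VA) := (qY.appLE V₀ VA le_rfl).hom.toAlgebra
  letI (j : Over i₀) : Algebra Γ(Y₀, V₀) Γ(E.obj j, Vj j) := ((pY j).appLE V₀ (Vj j) le_rfl).hom.toAlgebra
  letI (j : Over i₀) : Algebra Γ(E.obj j, Vj j) Γ(Y, VA) :=
    ((cE.π.app j).appLE (Vj j) VA (eπ j)).hom.toAlgebra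
  haveI (j : Over i₀) : IsScalarTower Γ(Y₀, V₀) Γ(E.obj j, Vj j) Γ(Y, VA) :=
    IsScalarTower.of_algebraMap_eq' (by
      show (qY.appLE V₀ VA _).hom =
        ((cE.π.app j).appLE (Vj j) VA (eπ j)).hom.comp ((pY j).appLE V₀ (Vj j) _).hom
      rw [← CommRingCat.hom_comp, Scheme.Hom.appLE_comp_appLE]
      simp only [hπ])
  letI : Algebra Γ(Y₀, V₀) Γ(X₀, U₀) := (f₀.appLE V₀ U₀ eU).hom.toAlgebra
  letI : Algebra Γ(Y, VA) Γ(X, U) := (f.appLE VA U inf_le_right).hom.toAlgebra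
  letI : Algebra Γ(X₀, U₀) Γ(X, U) := (qX.appLE U₀ U inf_le_left).hom.toAlgebra
  letI : Algebra Γ(Y₀, V₀) Γ(X, U) :=
    ((algebraMap Γ(Y, VA) Γ(X, U)).comp (algebraMap Γ(Y₀, V₀) Γ(Y, VA))).toAlgebra
  haveI : IsScalarTower Γ(Y₀, V₀) Γ(Y, VA) Γ(X, U) := IsScalarTower.of_algebraMap_eq' rfl
  haveI : IsScalarTower Γ(Y₀, V₀) Γ(X₀, U₀) Γ(X, U) := IsScalarTower.of_algebraMap_eq' (by
    show (f.appLE VA U _).hom.comp (qY.appLE V₀ VA _).hom =
      (qX.appLE U₀ U _).hom.comp (f₀.appLE V₀ U₀ _).hom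
    rw [← CommRingCat.hom_comp, ← CommRingCat.hom_comp, Scheme.Hom.appLE_comp_appLE,
      Scheme.Hom.appLE_comp_appLE]
    simp only [hX.w])
  haveI : Algebra.IsPushout Γ(Y₀, V₀) Γ(Y, VA) Γ(X₀, U₀) Γ(X, U) :=
    isPushout_square hX le_rfl eU hV₀ hVA hU₀ rfl rfl rfl rfl
  haveI : Algebra.FinitePresentation Γ(Y₀, V₀) Γ(X₀, U₀) :=
    HasRingHomProperty.appLE @LocallyOfFinitePresentation f₀ ‹_› ⟨V₀, hV₀⟩ ⟨U₀, hU₀⟩ eU
  letI : Module Γ(Y₀, V₀) Γ(F₀, U₀) := Module.compHom _ (algebraMap Γ(Y₀, V₀) Γ(X₀, U₀))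
  haveI : IsScalarTower Γ(Y₀, V₀) Γ(X₀, U₀) Γ(F₀, U₀) :=
    IsScalarTower.of_algebraMap_smul fun _ _ => rfl
  haveI := FlatFP.finitePresentation_sections F₀ hF₀ hU₀
  rw [FlatFP.isFlatOverAt_pullback_iff f qX F₀ hU₀ hVA hU inf_le_left inf_le_right hx rfl rfl]
    at hflat
  let tr : ∀ {k j : Over i₀}, (k ⟶ j) → Γ(E.obj j, Vj j) →ₐ[Γ(Y₀, V₀)] Γ(E.obj k, Vj k) :=
    fun {k j} φ => { ((E.map φ).appLE (Vj j) (Vj k) (etr φ)).hom with
      commutes' := fun a => by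
        show ((pY j).appLE V₀ (Vj j) _ ≫ (E.map φ).appLE (Vj j) (Vj k) (etr φ)) a =
          (pY k).appLE V₀ (Vj k) _ a
        rw [Scheme.Hom.appLE_comp_appLE]
        simp only [pY, E, map_fst] }
  have htr : ∀ {k j : Over i₀} (φ : k ⟶ j) (a : Γ(E.obj j, Vj j)),
      (cE.π.app k).appLE (Vj k) VA (eπ k) (tr φ a) = (cE.π.app j).appLE (Vj j) VA (eπ j) a := by
    intro k j φ a
    show ((E.map φ).appLE (Vj j) (Vj k) (etr φ) ≫ (cE.π.app k).appLE (Vj k) VA (eπ k)) a = _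
    rw [Scheme.Hom.appLE_comp_appLE]
    simp only [show cE.π.app k ≫ E.map φ = cE.π.app j from cE.w φ]
    rfl
  let top : Over i₀ := Over.mk (𝟙 i₀)
  obtain ⟨j, hj⟩ := exists_stage_flat_at' (A₀ := Γ(Y₀, V₀)) (A := Γ(Y, VA)) (B₀ := Γ(X₀, U₀))
    (B := Γ(X, U)) Γ(F₀, U₀) (fun j : Over i₀ => Γ(E.obj j, Vj j))
    (fun T => by
      induction T using Finset.induction_on with
      | empty => exact ⟨top, by simp⟩
      | insert b T _ ih =>
        obtain ⟨j, hj⟩ := ih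
        obtain ⟨k, φ, e, t, ht⟩ := exists_appLE_π_eq E cE hE (hVj top)
          (Y.presheaf.map (homOfLE (eπ' top)).op b)
        let t' : Γ(E.obj k, Vj k) := (E.obj k).presheaf.map (homOfLE (etr φ)).op t
        have ht' : (cE.π.app k).appLE (Vj k) VA (eπ k) t' = b := by
          refine (appLE_map_apply (cE.π.app k) (eπ k) (etr φ) t).trans ?_
          refine (appLE_restrict (cE.π.app k) e (eπ top) t).symm.trans ?_
          refine (congrArg (Y.presheaf.map (homOfLE (eπ top)).op) ht).trans ?_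
          show (Y.presheaf.map (homOfLE (eπ' top)).op ≫ Y.presheaf.map (homOfLE (eπ top)).op) b = b
          rw [← Functor.map_comp]
          show Y.presheaf.map (𝟙 _) b = b
          simp
        refine ⟨IsCofiltered.min j k, fun x hx => ?_⟩
        rcases Finset.mem_insert.1 (Finset.mem_coe.1 hx) with rfl | hx
        · exact ⟨tr (IsCofiltered.minToRight j k) t', (htr (IsCofiltered.minToRight j k) t').trans ht'⟩
        · obtain ⟨y, hy⟩ := hj (Finset.mem_coe.2 hx)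
          exact ⟨tr (IsCofiltered.minToLeft j k) y, (htr (IsCofiltered.minToLeft j k) y).trans hy⟩)
    (fun j p hp => by
      induction p using Finset.induction_on with
      | empty => exact ⟨j, AlgHom.id _ _, fun _ => rfl, by simp⟩
      | insert b p _ ih =>
        obtain ⟨k, ψ, hψ, hψp⟩ := ih fun x hx => hp x (Finset.mem_insert_of_mem hx)
        have hb : (cE.π.app k).app (Vj k) (ψ b.1) = (cE.π.app k).app (Vj k) (ψ b.2) := by
          have h2 : (cE.π.app k).appLE (Vj k) VA (eπ k) (ψ b.1) =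
              (cE.π.app k).appLE (Vj k) VA (eπ k) (ψ b.2) :=
            (hψ b.1).trans ((hp b (Finset.mem_insert_self b p)).trans (hψ b.2).symm)
          rw [Scheme.Hom.app_eq_appLE]
          exact (appLE_restrict _ (eπ k) (eπ' k) _).symm.trans
            ((congrArg (Y.presheaf.map (homOfLE (eπ' k)).op) h2).trans
              (appLE_restrict _ (eπ k) (eπ' k) _))
        obtain ⟨l, φ, hl⟩ := exists_app_map_eq_map_of_isLimit E cE hE (hVj k).isCompact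
          (ψ b.1) (ψ b.2) hb
        refine ⟨l, (tr φ).comp ψ, fun x => (htr φ (ψ x)).trans (hψ x), fun x hx => ?_⟩
        rcases Finset.mem_insert.1 hx with rfl | hx
        · exact (appLE_restrict (E.map φ) le_rfl (etr φ) _).symm.trans
            ((congrArg ((E.obj l).presheaf.map (homOfLE (etr φ)).op)
              (by rw [← Scheme.Hom.app_eq_appLE]; exact hl)).trans
              (appLE_restrict (E.map φ) le_rfl (etr φ) _))
        · rw [AlgHom.comp_apply, AlgHom.comp_apply, hψp x hx])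
    (WeakAss.primeAt x hx) hflat
  refine ⟨j, ?_⟩
  let Xj := pullback (f₀ ≫ g₀) (D.map j.hom)
  let fj : Xj ⟶ E.obj j := (mapNat D i₀ g₀ (f₀ ≫ g₀) f₀ rfl).app j
  let pX : Xj ⟶ X₀ := pullback.fst (f₀ ≫ g₀) (D.map j.hom)
  let vX : X ⟶ Xj := (cone D i₀ (f₀ ≫ g₀) (hX.paste_vert hY)).π.app j
  have hsq : IsPullback pX fj f₀ (pY j) := isPullback_mapNat D i₀ g₀ (f₀ ≫ g₀) f₀ rfl j
  have e2 : vX ≫ pX = qX := π_fst _ _ _ _ j
  have e3 : vX ≫ fj = f ≫ cE.π.app j :=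
    (isPullback_π D i₀ g₀ (f₀ ≫ g₀) hY f₀ rfl (hX.paste_vert hY) f hX.w.symm rfl j).w
  let Uj := pX ⁻¹ᵁ U₀ ⊓ fj ⁻¹ᵁ Vj j
  have hUj : IsAffineOpen Uj := isAffineOpen_square hsq le_rfl eU hV₀ (hVj j) hU₀
  have eUj : U ≤ vX ⁻¹ᵁ Uj := by
    rw [Scheme.Hom.preimage_inf, ← Scheme.Hom.comp_preimage, ← Scheme.Hom.comp_preimage, e2, e3,
      Scheme.Hom.comp_preimage f (cE.π.app j)]
    exact inf_le_inf le_rfl (f.preimage_mono (eπ j))
  letI : Algebra Γ(E.obj j, Vj j) Γ(Xj, Uj) := (fj.appLE (Vj j) Uj inf_le_right).hom.toAlgebra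
  letI : Algebra Γ(X₀, U₀) Γ(Xj, Uj) := (pX.appLE U₀ Uj inf_le_left).hom.toAlgebra
  letI : Algebra Γ(Y₀, V₀) Γ(Xj, Uj) :=
    ((algebraMap Γ(E.obj j, Vj j) Γ(Xj, Uj)).comp (algebraMap Γ(Y₀, V₀) Γ(E.obj j, Vj j))).toAlgebra
  haveI : IsScalarTower Γ(Y₀, V₀) Γ(E.obj j, Vj j) Γ(Xj, Uj) := IsScalarTower.of_algebraMap_eq' rfl
  haveI : IsScalarTower Γ(Y₀, V₀) Γ(X₀, U₀) Γ(Xj, Uj) := IsScalarTower.of_algebraMap_eq' (by
    show (fj.appLE (Vj j) Uj _).hom.comp ((pY j).appLE V₀ (Vj j) _).hom =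
      (pX.appLE U₀ Uj _).hom.comp (f₀.appLE V₀ U₀ _).hom
    rw [← CommRingCat.hom_comp, ← CommRingCat.hom_comp, Scheme.Hom.appLE_comp_appLE,
      Scheme.Hom.appLE_comp_appLE]
    simp only [hsq.w])
  haveI : Algebra.IsPushout Γ(Y₀, V₀) Γ(E.obj j, Vj j) Γ(X₀, U₀) Γ(Xj, Uj) :=
    isPushout_square hsq le_rfl eU hV₀ (hVj j) hU₀ rfl rfl rfl rfl
  refine (FlatFP.isFlatOverAt_pullback_iff fj pX F₀ hU₀ (hVj j) hUj inf_le_left inf_le_right
    (eUj hx) rfl rfl).mpr ?_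
  refine FlatFP.flat_localized_prime_congr (AssPts.comap_primeAt vX eUj hx)
    (hj Γ(Xj, Uj) (vX.appLE Uj U eUj).hom (fun s => ?_) fun b => ?_)
  · show (fj.appLE (Vj j) Uj _ ≫ vX.appLE Uj U eUj) s =
      ((cE.π.app j).appLE (Vj j) VA (eπ j) ≫ f.appLE VA U _) s
    rw [Scheme.Hom.appLE_comp_appLE, Scheme.Hom.appLE_comp_appLE]
    simp only [e3]
    rfl
  · show (pX.appLE U₀ Uj _ ≫ vX.appLE Uj U eUj) b = qX.appLE U₀ U _ b
    rw [Scheme.Hom.appLE_comp_appLE]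
    simp only [e2]

end GrothLib.FlatLimit

end
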