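import Groth.Agent.Lib.FlatLimit.Stage

/-!
# Flatness of a module over the base comes from a stage
-/

set_option autoImplicit false
set_option backward.isDefEq.respectTransparency false
set_option linter.style.haveILetI false
universe u

open CategoryTheory Limits AlgebraicGeometry TensorProduct

noncomputable section

namespace GrothLib.FlatLimit

/-- The flat locus of the pullback of a finitely presented module is open. -/
theorem isOpen_flatLocus_pullback {X Y X₀ : Scheme.{u}} (f : X ⟶ Y) [LocallyOfFinitePresentation f]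
    (q : X ⟶ X₀) (F₀ : X₀.Modules) [F₀.IsQuasicoherent] (hF₀ : CohB1.IsFP F₀) :
    IsOpen {x : X | FlatMod.IsFlatOverAt f ((Scheme.Modules.pullback q).obj F₀) x} := by
  rw [isOpen_iff_forall_mem_open]
  intro x hx
  obtain ⟨V, hV, hxV, -⟩ :=
    exists_isAffineOpen_mem_and_subset (show f.base x ∈ (⊤ : Y.Opens) from trivial)
  obtain ⟨U₀, hU₀, hxU₀, -⟩ :=
    exists_isAffineOpen_mem_and_subset (show q.base x ∈ (⊤ : X₀.Opens) from trivial)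
  obtain ⟨U, hU, hxU, e'⟩ := exists_isAffineOpen_mem_and_subset
    (show x ∈ q ⁻¹ᵁ U₀ ⊓ f ⁻¹ᵁ V from ⟨hxU₀, hxV⟩)
  have e₀ : U ≤ q ⁻¹ᵁ U₀ := fun z hz => (e' hz).1
  have e : U ≤ f ⁻¹ᵁ V := fun z hz => (e' hz).2
  letI : Algebra Γ(X₀, U₀) Γ(X, U) := (q.appLE U₀ U e₀).hom.toAlgebra
  letI : Algebra Γ(Y, V) Γ(X, U) := (f.appLE V U e).hom.toAlgebra
  haveI : SMulCommClass Γ(X₀, U₀) Γ(Y, V) Γ(X, U) :=
    ⟨fun a b x => by simp [Algebra.smul_def, mul_left_comm]⟩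
  haveI : Algebra.FinitePresentation Γ(Y, V) Γ(X, U) :=
    HasRingHomProperty.appLE @LocallyOfFinitePresentation f ‹_› ⟨V, hV⟩ ⟨U, hU⟩ e
  haveI := FlatFP.finitePresentation_sections F₀ hF₀ hU₀
  have hopen := GrothLib.FibreFlat.isOpen_flat_locus (R := Γ(Y, V)) (A := Γ(X, U))
    (M := Γ(X, U) ⊗[Γ(X₀, U₀)] Γ(F₀, U₀))
  refine ⟨hU.fromSpec '' {P | Module.Flat Γ(Y, V)
      (LocalizedModule P.asIdeal.primeCompl (Γ(X, U) ⊗[Γ(X₀, U₀)] Γ(F₀, U₀)))},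
    ?_, hU.fromSpec.isOpenEmbedding.isOpenMap _ hopen, ?_⟩
  · rintro z ⟨P, hP, rfl⟩
    refine (FlatFP.isFlatOverAt_pullback_iff f q F₀ hU₀ hV hU e₀ e (WeakAss.fromSpec_mem hU P)
      rfl rfl).mpr ?_
    exact FlatFP.flat_localized_prime_congr
      (WeakAss.primeAt_fromSpec hU P (WeakAss.fromSpec_mem hU P)).symm hP
  · obtain ⟨P, rfl⟩ : x ∈ Set.range hU.fromSpec := hU.range_fromSpec.symm ▸ hxU
    refine ⟨P, ?_, rfl⟩
    have := (FlatFP.isFlatOverAt_pullback_iff f q F₀ hU₀ hV hU e₀ e (WeakAss.fromSpec_mem hU P)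
      rfl rfl).mp hx
    exact FlatFP.flat_localized_prime_congr
      (WeakAss.primeAt_fromSpec hU P (WeakAss.fromSpec_mem hU P)) this

open GrothLib.LimDesc

variable {I : Type u} [SmallCategory I] [IsCofiltered I] (D : I ⥤ Scheme.{u}) {c : Cone D}
  (hc : IsLimit c) [∀ (i j : I) (f : i ⟶ j), IsAffineHom (D.map f)] {i₀ : I}
  {X₀ Y₀ : Scheme.{u}} (f₀ : X₀ ⟶ Y₀) (g₀ : Y₀ ⟶ D.obj i₀) {X Y : Scheme.{u}} {f : X ⟶ Y}
  {g : Y ⟶ c.pt} {qY : Y ⟶ Y₀} {qX : X ⟶ X₀}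
  (hY : IsPullback qY g g₀ (c.π.app i₀)) (hX : IsPullback qX f f₀ qY)

omit [IsCofiltered I] in
/-- Flatness at a point of a stage passes to later stages. -/
theorem flatAt_stage_of_hom [LocallyOfFinitePresentation f₀] (F₀ : X₀.Modules) [F₀.IsQuasicoherent]
    {k j : Over i₀} (φ : k ⟶ j) (x : ↥(pullback (f₀ ≫ g₀) (D.map k.hom)))
    (h : FlatMod.IsFlatOverAt ((mapNat D i₀ g₀ (f₀ ≫ g₀) f₀ rfl).app j)
      ((Scheme.Modules.pullback (pullback.fst (f₀ ≫ g₀) (D.map j.hom))).obj F₀)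
      ((diag D i₀ (f₀ ≫ g₀)).map φ x)) :
    FlatMod.IsFlatOverAt ((mapNat D i₀ g₀ (f₀ ≫ g₀) f₀ rfl).app k)
      ((Scheme.Modules.pullback (pullback.fst (f₀ ≫ g₀) (D.map k.hom))).obj F₀) x := by
  haveI := isAffineHom_fst D i₀ g₀ j
  haveI := isAffineHom_fst D i₀ g₀ k
  exact flatAt_of_stage (isPullback_mapNat D i₀ g₀ (f₀ ≫ g₀) f₀ rfl j)
    (isPullback_mapNat D i₀ g₀ (f₀ ≫ g₀) f₀ rfl k) F₀ ((diag D i₀ g₀).map φ)
    ((diag D i₀ (f₀ ≫ g₀)).map φ) (map_fst D i₀ g₀ φ) (map_fst D i₀ (f₀ ≫ g₀) φ)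
    ((mapNat D i₀ g₀ (f₀ ≫ g₀) f₀ rfl).naturality φ) x h

include hc hY hX in
/-- **Flatness of a finitely presented module over the base comes from a stage.** -/
theorem exists_stage_flatOver [LocallyOfFinitePresentation f₀] [CompactSpace X₀] (F₀ : X₀.Modules)
    [F₀.IsQuasicoherent] (hF₀ : CohB1.IsFP F₀)
    (hflat : FlatMod.IsFlatOver f ((Scheme.Modules.pullback qX).obj F₀)) :
    ∃ j : Over i₀, FlatMod.IsFlatOver ((mapNat D i₀ g₀ (f₀ ≫ g₀) f₀ rfl).app j)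
      ((Scheme.Modules.pullback (pullback.fst (f₀ ≫ g₀) (D.map j.hom))).obj F₀) := by
  classical
  let cE := cone D i₀ (f₀ ≫ g₀) (hX.paste_vert hY)
  have hE : IsLimit cE := isLimitCone D i₀ (f₀ ≫ g₀) (hX.paste_vert hY) hc
  haveI : IsAffineHom qX := MorphismProperty.of_isPullback (P := @IsAffineHom) hX.flip
    (isAffineHom_of_limit D hc g₀ hY)
  haveI : CompactSpace X := QuasiCompact.compactSpace_of_compactSpace qX
  haveI (j : Over i₀) : LocallyOfFinitePresentation ((mapNat D i₀ g₀ (f₀ ≫ g₀) f₀ rfl).app j) :=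
    MorphismProperty.of_isPullback (P := @LocallyOfFinitePresentation)
      (isPullback_mapNat D i₀ g₀ (f₀ ≫ g₀) f₀ rfl j) inferInstance
  choose jx hjx using fun x => exists_stage_flatAt D hc f₀ g₀ hY hX F₀ hF₀ x (hflat x)
  let W : ∀ x, ((diag D i₀ (f₀ ≫ g₀)).obj (jx x)).Opens := fun x =>
    ⟨_, isOpen_flatLocus_pullback ((mapNat D i₀ g₀ (f₀ ≫ g₀) f₀ rfl).app (jx x))
      (pullback.fst (f₀ ≫ g₀) (D.map (jx x).hom)) F₀ hF₀⟩
  let O : X → X.Opens := fun x => cE.π.app (jx x) ⁻¹ᵁ W x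
  obtain ⟨t, ht⟩ := CompactSpace.elim_nhds_subcover (fun x : X => (O x : Set X))
    (fun x => (O x).2.mem_nhds (hjx x))
  obtain ⟨k, -, φ, -⟩ := IsCofiltered.wideCospan (I := {x // x ∈ t}) (i := Over.mk (𝟙 i₀))
    (fun x => (Over.homMk (jx x).hom : jx x ⟶ Over.mk (𝟙 i₀)))
  let U := ⨆ x : {x // x ∈ t}, (diag D i₀ (f₀ ≫ g₀)).map (φ x) ⁻¹ᵁ W x
  haveI (i j : Over i₀) (ψ : i ⟶ j) : IsAffineHom ((diag D i₀ (f₀ ≫ g₀)).map ψ) :=
    isAffineHom_map D i₀ _ ψ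
  haveI (i : Over i₀) : CompactSpace ↥((diag D i₀ (f₀ ≫ g₀)).obj i) := compactSpace_obj D i₀ _ i
  have hU : cE.π.app k ⁻¹ᵁ U = ⊤ := by
    refine top_le_iff.mp fun y _ => ?_
    obtain ⟨x, hxt, hy⟩ := Set.mem_iUnion₂.mp (ht.ge (Set.mem_univ y))
    show cE.π.app k y ∈ U
    refine TopologicalSpace.Opens.mem_iSup.mpr ⟨⟨x, hxt⟩, ?_⟩
    show (diag D i₀ (f₀ ≫ g₀)).map (φ ⟨x, hxt⟩) (cE.π.app k y) ∈ W x
    rw [← Scheme.Hom.comp_apply, cE.w]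
    exact hy
  obtain ⟨l, ψ, hl⟩ := exists_map_eq_top _ cE hE U hU
  refine ⟨l, fun y => ?_⟩
  have hy : (diag D i₀ (f₀ ≫ g₀)).map ψ y ∈ U := hl.ge (Set.mem_univ y)
  obtain ⟨x, hx⟩ := TopologicalSpace.Opens.mem_iSup.mp hy
  refine flatAt_stage_of_hom D f₀ g₀ F₀ (ψ ≫ φ x) y ?_
  rw [Functor.map_comp, Scheme.Hom.comp_apply]
  exact hx

end GrothLib.FlatLimit

end
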