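import Groth.Agent.Lib.FlatLimit.Affine
import Groth.Agent.Lib.LimDesc.Unram
import Mathlib.AlgebraicGeometry.Morphisms.Etale

/-!
# Flat and étale morphisms descend along limits
-/

set_option autoImplicit false
set_option backward.isDefEq.respectTransparency false
set_option linter.style.haveILetI false
universe u

open CategoryTheory Limits AlgebraicGeometry

noncomputable section

namespace GrothLib.LimDesc

variable {I : Type u} [SmallCategory I] [IsCofiltered I] (D : I ⥤ Scheme.{u}) {c : Cone D}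
  (hc : IsLimit c) [∀ (i j : I) (f : i ⟶ j), IsAffineHom (D.map f)] {i₀ : I}
  {X₀ Y₀ : Scheme.{u}} (f₀ : X₀ ⟶ Y₀) (g₀ : Y₀ ⟶ D.obj i₀) {X Y : Scheme.{u}} {f : X ⟶ Y}
  {g : Y ⟶ c.pt} {qY : Y ⟶ Y₀} {qX : X ⟶ X₀}
  (hY : IsPullback qY g g₀ (c.π.app i₀)) (hX : IsPullback qX f f₀ qY)
  [CompactSpace X₀] [QuasiSeparatedSpace X₀] [CompactSpace Y₀] [QuasiSeparatedSpace Y₀]

omit [QuasiSeparatedSpace X₀] in
include hc hY hX in
/-- Flat morphisms descend to a stage. -/
theorem exists_flat [LocallyOfFinitePresentation f₀] [Flat f] :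
    ∃ j : Over i₀, Flat ((mapNat D i₀ g₀ (f₀ ≫ g₀) f₀ rfl).app j) := by
  haveI := compactSpace_top D f₀ g₀
  haveI : LocallyOfFinitePresentation (topMap D f₀ g₀) :=
    MorphismProperty.of_isPullback (P := @LocallyOfFinitePresentation)
      (isPullback_mapNat D i₀ g₀ (f₀ ≫ g₀) f₀ rfl (Over.mk (𝟙 i₀))) inferInstance
  exact of_topMap D f₀ g₀ @Flat (exists_snd_of_affine_case' (diag D i₀ g₀)
    (isLimitCone D i₀ g₀ hY hc) (topMap D f₀ g₀) (isPullback_topMap D f₀ g₀ hY hX)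
    @Flat affineCase_flat ‹Flat f›)

include hc hY hX in
/-- Étale morphisms descend to a stage. -/
theorem exists_etale [LocallyOfFinitePresentation f₀] [Etale f] :
    ∃ j : Over i₀, Etale ((mapNat D i₀ g₀ (f₀ ≫ g₀) f₀ rfl).app j) := by
  obtain ⟨j₁, h₁⟩ := exists_flat D hc f₀ g₀ hY hX
  obtain ⟨j₂, h₂⟩ := exists_formallyUnramified D hc f₀ g₀ hY hX
  let j := IsCofiltered.min j₁ j₂
  refine ⟨j, ?_⟩
  let N := (mapNat D i₀ g₀ (f₀ ≫ g₀) f₀ rfl).app j
  haveI : LocallyOfFinitePresentation N :=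
    MorphismProperty.of_isPullback (P := @LocallyOfFinitePresentation)
      (isPullback_mapNat D i₀ g₀ (f₀ ≫ g₀) f₀ rfl j) inferInstance
  haveI : Flat N := MorphismProperty.of_isPullback (P := @Flat)
    (isPullback_mapNat_map D i₀ g₀ (f₀ ≫ g₀) f₀ rfl (IsCofiltered.minToLeft j₁ j₂)) h₁
  haveI : FormallyUnramified N := MorphismProperty.of_isPullback (P := @FormallyUnramified)
    (isPullback_mapNat_map D i₀ g₀ (f₀ ≫ g₀) f₀ rfl (IsCofiltered.minToRight j₁ j₂)) h₂
  exact Etale.of_formallyUnramified_of_flat N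

end GrothLib.LimDesc
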