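import Groth.Agent.Lib.FlatLimit.Core
import Groth.Agent.Lib.FibreFlat.OpenLocus

/-!
# Flatness over a colimit comes from a stage (EGA IV 11.2.6, algebra form)
-/

universe u v

namespace GrothLib.FlatLimit

open TensorProduct Function MvPolynomial GrothLib.FlatStage GrothLib.FibreFlat

attribute [local instance] MvPolynomial.algebraMvPolynomial

variable {A₀ A : Type u} [CommRing A₀] [CommRing A] [Algebra A₀ A]
  {ι : Type v} (G : ι → Type u) [∀ i, CommRing (G i)] [∀ i, Algebra A₀ (G i)]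
  [∀ i, Algebra (G i) A] [∀ i, IsScalarTower A₀ (G i) A]

omit [∀ i, IsScalarTower A₀ (G i) A] in
/-- Finitely many stages map to a common one. -/
theorem exists_common [Nonempty ι]
    (hdir : ∀ i i' : ι, ∃ j, ∃ (φ : G i →ₐ[A₀] G j) (φ' : G i' →ₐ[A₀] G j),
      (∀ x, algebraMap (G j) A (φ x) = algebraMap (G i) A x) ∧
      ∀ x, algebraMap (G j) A (φ' x) = algebraMap (G i') A x)
    (s : Finset ι) :
    ∃ k, ∀ i ∈ s, ∃ φ : G i →ₐ[A₀] G k, ∀ x, algebraMap (G k) A (φ x) = algebraMap (G i) A x := by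
  classical
  induction s using Finset.induction_on with
  | empty => exact ⟨Classical.arbitrary ι, fun i hi => absurd hi (Finset.notMem_empty i)⟩
  | insert a s _ ih =>
    obtain ⟨k, hk⟩ := ih
    obtain ⟨j, φ, φ', hφ, hφ'⟩ := hdir a k
    refine ⟨j, fun i hi => ?_⟩
    rcases Finset.mem_insert.1 hi with rfl | hi
    · exact ⟨φ, hφ⟩
    · obtain ⟨ψ, hψ⟩ := hk i hi
      exact ⟨φ'.comp ψ, fun x => by rw [AlgHom.comp_apply, hφ', hψ]⟩

set_option maxHeartbeats 1000000 in
/-- **Flatness comes from a stage**, for a module over a polynomial ring. -/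
theorem exists_stage_flat_poly
    (hdir : ∀ i i' : ι, ∃ j, ∃ (φ : G i →ₐ[A₀] G j) (φ' : G i' →ₐ[A₀] G j),
      (∀ x, algebraMap (G j) A (φ x) = algebraMap (G i) A x) ∧
      ∀ x, algebraMap (G j) A (φ' x) = algebraMap (G i') A x)
    (hlift : ∀ T : Finset A, ∃ i, (T : Set A) ⊆ Set.range (algebraMap (G i) A))
    (heq : ∀ i (p : Finset (G i × G i)),
      (∀ x ∈ p, algebraMap (G i) A x.1 = algebraMap (G i) A x.2) →
      ∃ j, ∃ ψ : G i →ₐ[A₀] G j, (∀ x, algebraMap (G j) A (ψ x) = algebraMap (G i) A x) ∧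
        ∀ x ∈ p, ψ x.1 = ψ x.2)
    {m : ℕ} (M₀ : Type u) [AddCommGroup M₀] [Module (MvPolynomial (Fin m) A₀) M₀] [Module A₀ M₀]
    [IsScalarTower A₀ (MvPolynomial (Fin m) A₀) M₀]
    [Module.FinitePresentation (MvPolynomial (Fin m) A₀) M₀]
    [Module.Flat A (MvPolynomial (Fin m) A ⊗[MvPolynomial (Fin m) A₀] M₀)] :
    ∃ i, Module.Flat (G i) (MvPolynomial (Fin m) (G i) ⊗[MvPolynomial (Fin m) A₀] M₀) := by
  classical
  haveI : Nonempty ι := ⟨(hlift ∅).choose⟩
  have hP : ∀ P : PrimeSpectrum (MvPolynomial (Fin m) A),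
      ∃ (i : ι) (f : MvPolynomial (Fin m) (G i)),
        MvPolynomial.map (algebraMap (G i) A) f ∉ P.asIdeal ∧
        ∀ Q : PrimeSpectrum (MvPolynomial (Fin m) (G i)), f ∉ Q.asIdeal →
          Module.Flat (G i) (LocalizedModule Q.asIdeal.primeCompl
            (MvPolynomial (Fin m) (G i) ⊗[MvPolynomial (Fin m) A₀] M₀)) := by
    intro P
    haveI := GrothLib.FlatModel.flat_localizedModule (R := A)
      (M := MvPolynomial (Fin m) A ⊗[MvPolynomial (Fin m) A₀] M₀) P.asIdeal.primeCompl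
    obtain ⟨i, hi⟩ := exists_stage_flat_at G hlift heq M₀ P.asIdeal
    obtain ⟨_, ⟨f, rfl⟩, hPf, hf⟩ :=
      PrimeSpectrum.isTopologicalBasis_basic_opens.exists_subset_of_mem_open
        (show (⟨P.asIdeal.comap (MvPolynomial.map (algebraMap (G i) A)), inferInstance⟩ :
            PrimeSpectrum (MvPolynomial (Fin m) (G i))) ∈
          {q : PrimeSpectrum (MvPolynomial (Fin m) (G i)) |
            Module.Flat (G i) (LocalizedModule q.asIdeal.primeCompl
              (MvPolynomial (Fin m) (G i) ⊗[MvPolynomial (Fin m) A₀] M₀))} from hi)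
        (isOpen_flat_locus (R := G i) (A := MvPolynomial (Fin m) (G i))
          (M := MvPolynomial (Fin m) (G i) ⊗[MvPolynomial (Fin m) A₀] M₀))
    exact ⟨i, f, hPf, fun Q hQ => hf hQ⟩
  choose i f hPf hflat using hP
  let F : PrimeSpectrum (MvPolynomial (Fin m) A) → MvPolynomial (Fin m) A :=
    fun P => MvPolynomial.map (algebraMap (G (i P)) A) (f P)
  have htop : (1 : MvPolynomial (Fin m) A) ∈ Ideal.span (Set.range F) := by
    by_contra h
    obtain ⟨P, hP, hle⟩ := Ideal.exists_le_maximal _ (fun h' => h ((Ideal.eq_top_iff_one _).1 h'))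
    exact hPf ⟨P, hP.isPrime⟩ (hle (Ideal.subset_span (Set.mem_range_self (f := F) ⟨P, hP.isPrime⟩)))
  obtain ⟨a, ha⟩ := Finsupp.mem_span_range_iff_exists_finsupp.1 htop
  obtain ⟨c, hc⟩ := hlift (a.support.biUnion fun P => (a P).coeffs)
  choose! al hal using fun P (hP : P ∈ a.support) =>
    exists_map_eq (algebraMap (G c) A) (p := a P) fun x hx =>
      hc (Finset.mem_coe.2 (Finset.mem_biUnion.2 ⟨P, hP, hx⟩))
  obtain ⟨k, hk⟩ := exists_common G hdir (insert c (a.support.image i))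
  obtain ⟨φc, hφc⟩ := hk c (Finset.mem_insert_self c _)
  choose φ hφ using fun (P : a.support) =>
    hk (i P.1) (Finset.mem_insert_of_mem (Finset.mem_image_of_mem i P.2))
  let e : MvPolynomial (Fin m) (G k) := ∑ P ∈ a.support.attach,
    MvPolynomial.map φc.toRingHom (al P.1) * MvPolynomial.map (φ P).toRingHom (f P.1)
  have he : MvPolynomial.map (algebraMap (G k) A) e = 1 := by
    rw [map_sum, ← ha, Finsupp.sum, ← Finset.sum_attach a.support]
    refine Finset.sum_congr rfl fun P _ => ?_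
    rw [map_mul, MvPolynomial.map_map, MvPolynomial.map_map, smul_eq_mul, ← hal P.1 P.2]
    congr 1
    · exact congrArg (fun h => MvPolynomial.map h (al P.1)) (RingHom.ext hφc)
    · exact congrArg (fun h => MvPolynomial.map h (f P.1)) (RingHom.ext (hφ P))
  obtain ⟨l, ψ, hψA, hψ⟩ := heq k
    ((e.support ∪ (1 : MvPolynomial (Fin m) (G k)).support).image fun v => (coeff v e, coeff v 1))
    fun x hx => by
      obtain ⟨v, -, rfl⟩ := Finset.mem_image.1 hx
      dsimp only
      rw [← coeff_map, ← coeff_map, he, map_one]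
  have he' : MvPolynomial.map ψ.toRingHom e = 1 := by
    rw [← map_one (MvPolynomial.map (σ := Fin m) ψ.toRingHom)]
    ext v
    rw [coeff_map, coeff_map]
    by_cases hv : v ∈ e.support ∪ (1 : MvPolynomial (Fin m) (G k)).support
    · exact hψ _ (Finset.mem_image_of_mem (fun v => (coeff v e, coeff v 1)) hv)
    · rw [Finset.mem_union, not_or, mem_support_iff, mem_support_iff, not_not, not_not] at hv
      rw [hv.1, hv.2]
  refine ⟨l, Module.flat_of_isLocalized_maximal (MvPolynomial (Fin m) (G l))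
    (MvPolynomial (Fin m) (G l) ⊗[MvPolynomial (Fin m) A₀] M₀)
    (fun Q _ => LocalizedModule Q.primeCompl _)
    (fun Q _ => LocalizedModule.mkLinearMap Q.primeCompl _) fun Q hQ => ?_⟩
  have hex : ∃ P : a.support, MvPolynomial.map (ψ.toRingHom.comp (φ P).toRingHom) (f P.1) ∉ Q := by
    by_contra h
    push Not at h
    refine hQ.ne_top ((Ideal.eq_top_iff_one Q).2 ?_)
    rw [← he', map_sum]
    refine Submodule.sum_mem _ fun P _ => ?_
    rw [map_mul, MvPolynomial.map_map _ _ (f P.1)]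
    exact Ideal.mul_mem_left _ _ (h P)
  obtain ⟨P, hPQ⟩ := hex
  letI : Algebra (G (i P.1)) (G l) := (ψ.toRingHom.comp (φ P).toRingHom).toAlgebra
  haveI : IsScalarTower A₀ (G (i P.1)) (G l) := IsScalarTower.of_algebraMap_eq fun x => by
    show _ = ψ ((φ P) (algebraMap A₀ (G (i P.1)) x))
    rw [(φ P).commutes, ψ.commutes]
  let Q₂ : PrimeSpectrum (MvPolynomial (Fin m) (G (i P.1))) :=
    ⟨Q.comap (MvPolynomial.map (algebraMap (G (i P.1)) (G l))), inferInstance⟩
  haveI := hflat P.1 Q₂ hPQ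
  exact flat_of_stage (LS := LocalizedModule Q₂.asIdeal.primeCompl
      (MvPolynomial (Fin m) (G (i P.1)) ⊗[MvPolynomial (Fin m) A₀] M₀))
    (L := LocalizedModule Q.primeCompl (MvPolynomial (Fin m) (G l) ⊗[MvPolynomial (Fin m) A₀] M₀))
    M₀ (G (i P.1)) (G l) Q
    (LocalizedModule.mkLinearMap Q₂.asIdeal.primeCompl _)
    (LocalizedModule.mkLinearMap Q.primeCompl _)

/-- **Flatness comes from a stage**, for a finitely presented module over a finitely presented
algebra. -/
theorem exists_stage_flat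
    (hdir : ∀ i i' : ι, ∃ j, ∃ (φ : G i →ₐ[A₀] G j) (φ' : G i' →ₐ[A₀] G j),
      (∀ x, algebraMap (G j) A (φ x) = algebraMap (G i) A x) ∧
      ∀ x, algebraMap (G j) A (φ' x) = algebraMap (G i') A x)
    (hlift : ∀ T : Finset A, ∃ i, (T : Set A) ⊆ Set.range (algebraMap (G i) A))
    (heq : ∀ i (p : Finset (G i × G i)),
      (∀ x ∈ p, algebraMap (G i) A x.1 = algebraMap (G i) A x.2) →
      ∃ j, ∃ ψ : G i →ₐ[A₀] G j, (∀ x, algebraMap (G j) A (ψ x) = algebraMap (G i) A x) ∧
        ∀ x ∈ p, ψ x.1 = ψ x.2)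
    (B₀ : Type u) [CommRing B₀] [Algebra A₀ B₀] [Algebra.FinitePresentation A₀ B₀]
    (M₀ : Type u) [AddCommGroup M₀] [Module B₀ M₀] [Module A₀ M₀] [IsScalarTower A₀ B₀ M₀]
    [Module.FinitePresentation B₀ M₀] [Module.Flat A (A ⊗[A₀] M₀)] :
    ∃ i, Module.Flat (G i) (G i ⊗[A₀] M₀) := by
  obtain ⟨m, π, hπ, hker⟩ := ‹Algebra.FinitePresentation A₀ B₀›.out
  let C₀ := MvPolynomial (Fin m) A₀
  letI : Algebra C₀ B₀ := π.toRingHom.toAlgebra
  haveI : IsScalarTower A₀ C₀ B₀ := IsScalarTower.of_algebraMap_eq fun r => (π.commutes r).symm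
  letI : Module C₀ M₀ := Module.compHom M₀ (algebraMap C₀ B₀)
  haveI : IsScalarTower C₀ B₀ M₀ := IsScalarTower.of_algebraMap_smul fun _ _ => rfl
  haveI : IsScalarTower A₀ C₀ M₀ := IsScalarTower.of_algebraMap_smul fun r x => by
    show π (algebraMap A₀ C₀ r) • x = r • x
    rw [π.commutes, algebraMap_smul]
  haveI : Module.FinitePresentation C₀ B₀ := Module.finitePresentation_of_surjective
    (Algebra.linearMap C₀ B₀) hπ hker
  haveI : Module.FinitePresentation C₀ M₀ := Module.FinitePresentation.trans C₀ M₀ B₀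
  haveI : Module.Flat A (MvPolynomial (Fin m) A ⊗[MvPolynomial (Fin m) A₀] M₀) :=
    Module.Flat.of_linearEquiv (cancel (m := m) (R₀ := A₀) M₀ A)
  obtain ⟨i, hi⟩ := exists_stage_flat_poly G hdir hlift heq (m := m) M₀
  exact ⟨i, Module.Flat.of_linearEquiv (cancel (m := m) (R₀ := A₀) M₀ (G i)).symm⟩

end GrothLib.FlatLimit
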