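import Mathlib.LinearAlgebra.TensorProduct.RightExactness
import Mathlib.LinearAlgebra.DirectSum.Finsupp
import Mathlib.RingTheory.TensorProduct.Basic
import Mathlib.LinearAlgebra.TensorProduct.Finiteness

/-!
# An element vanishing in the colimit vanishes at a stage
-/

universe u v

namespace GrothLib.FlatLimit

open TensorProduct Function

variable {A₀ A : Type u} [CommRing A₀] [CommRing A] [Algebra A₀ A]
  {ι : Type v} (G : ι → Type u) [∀ i, CommRing (G i)] [∀ i, Algebra A₀ (G i)]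
  [∀ i, Algebra (G i) A] [∀ i, IsScalarTower A₀ (G i) A]

omit [∀ i, IsScalarTower A₀ (G i) A] in
/-- Finitely many elements vanishing in the colimit vanish at one stage. -/
theorem exists_stage_map_eq_zero
    (heq : ∀ i (p : Finset (G i × G i)),
      (∀ x ∈ p, algebraMap (G i) A x.1 = algebraMap (G i) A x.2) →
      ∃ j, ∃ ψ : G i →ₐ[A₀] G j, (∀ x, algebraMap (G j) A (ψ x) = algebraMap (G i) A x) ∧
        ∀ x ∈ p, ψ x.1 = ψ x.2)
    (i : ι) (s : Finset (G i)) (hs : ∀ x ∈ s, algebraMap (G i) A x = 0) :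
    ∃ j, ∃ ψ : G i →ₐ[A₀] G j, (∀ x, algebraMap (G j) A (ψ x) = algebraMap (G i) A x) ∧
      ∀ x ∈ s, ψ x = 0 := by
  classical
  obtain ⟨j, ψ, hψ, h⟩ := heq i (s.image fun x => (x, 0)) fun x hx => by
    obtain ⟨y, hy, rfl⟩ := Finset.mem_image.1 hx
    simp [hs y hy]
  exact ⟨j, ψ, hψ, fun x hx => by
    simpa using h (x, 0) (Finset.mem_image_of_mem (fun x => (x, (0 : G i))) hx)⟩

/-- An element of `G i ⊗ M` vanishing in `A ⊗ M` vanishes at a stage. -/
theorem exists_stage_tmul_eq_zero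
    (hdir : ∀ i i' : ι, ∃ j, ∃ (φ : G i →ₐ[A₀] G j) (φ' : G i' →ₐ[A₀] G j),
      (∀ x, algebraMap (G j) A (φ x) = algebraMap (G i) A x) ∧
      ∀ x, algebraMap (G j) A (φ' x) = algebraMap (G i') A x)
    (hlift : ∀ T : Finset A, ∃ i, (T : Set A) ⊆ Set.range (algebraMap (G i) A))
    (heq : ∀ i (p : Finset (G i × G i)),
      (∀ x ∈ p, algebraMap (G i) A x.1 = algebraMap (G i) A x.2) →
      ∃ j, ∃ ψ : G i →ₐ[A₀] G j, (∀ x, algebraMap (G j) A (ψ x) = algebraMap (G i) A x) ∧
        ∀ x ∈ p, ψ x.1 = ψ x.2)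
    {M : Type u} [AddCommGroup M] [Module A₀ M] (i : ι) (z : G i ⊗[A₀] M)
    (hz : (IsScalarTower.toAlgHom A₀ (G i) A).toLinearMap.rTensor M z = 0) :
    ∃ j, ∃ ψ : G i →ₐ[A₀] G j, (∀ x, algebraMap (G j) A (ψ x) = algebraMap (G i) A x) ∧
      ψ.toLinearMap.rTensor M z = 0 := by
  classical
  let F := M →₀ A₀
  let π : F →ₗ[A₀] M := Finsupp.linearCombination A₀ id
  have hπ : Surjective π := fun m =>
    ⟨Finsupp.single m 1, (Finsupp.linearCombination_single A₀ 1 m).trans (one_smul _ _)⟩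
  let K := LinearMap.ker π
  obtain ⟨zF, rfl⟩ := LinearMap.lTensor_surjective (G i) hπ z
  let f := (IsScalarTower.toAlgHom A₀ (G i) A).toLinearMap
  have hcomm : ∀ y : G i ⊗[A₀] F,
      π.lTensor A (f.rTensor F y) = f.rTensor M (π.lTensor (G i) y) := fun y => by
    induction y using TensorProduct.induction_on with
    | zero => simp
    | add p q hp hq => simp only [map_add, hp, hq]
    | tmul g p => simp
  have h0 : π.lTensor A (f.rTensor F zF) = 0 := (hcomm zF).trans hz
  have hex := lTensor_exact A (R := A₀) (M := K) (N := F) (P := M) (f := K.subtype) (g := π)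
    (fun x => ⟨fun hx => ⟨⟨x, hx⟩, rfl⟩, fun ⟨y, hy⟩ => hy ▸ y.2⟩) hπ
  obtain ⟨w, hw⟩ := (hex _).mp h0
  obtain ⟨T, hT⟩ := TensorProduct.exists_finset w
  obtain ⟨i', hi'⟩ := hlift (T.image Prod.fst)
  choose a ha using fun x : T => hi' (Finset.mem_coe.2 (Finset.mem_image_of_mem Prod.fst x.2))
  obtain ⟨j, φ, φ', hφ, hφ'⟩ := hdir i i'
  let fj := (IsScalarTower.toAlgHom A₀ (G j) A).toLinearMap
  let z₁ : G j ⊗[A₀] F := φ.toLinearMap.rTensor F zF
  let w₁ : G j ⊗[A₀] F := ∑ x : T, φ' (a x) ⊗ₜ (x.1.2 : F)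
  have hd : fj.rTensor F (z₁ - w₁) = 0 := by
    rw [map_sub, sub_eq_zero]
    have h1 : fj.rTensor F z₁ = f.rTensor F zF := by
      rw [← LinearMap.comp_apply, ← LinearMap.rTensor_comp]
      congr 2
      exact LinearMap.ext hφ
    rw [h1, ← hw, hT, map_sum, map_sum, ← Finset.sum_coe_sort T]
    refine Finset.sum_congr rfl fun x _ => ?_
    rw [LinearMap.lTensor_tmul, LinearMap.rTensor_tmul]
    congr 1
    exact (ha x).symm.trans (hφ' _).symm
  let e := TensorProduct.finsuppScalarRight A₀ A₀ (G j) M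
  have hcoef : ∀ m ∈ (e (z₁ - w₁)).support, algebraMap (G j) A (e (z₁ - w₁) m) = 0 := by
    intro m _
    have key : ∀ y : G j ⊗[A₀] F,
        TensorProduct.finsuppScalarRight A₀ A₀ A M (fj.rTensor F y) m = fj (e y m) := fun y => by
      induction y using TensorProduct.induction_on with
      | zero => simp
      | add p q hp hq => simp only [map_add, Finsupp.add_apply, hp, hq]
      | tmul g p =>
        rw [LinearMap.rTensor_tmul]
        exact (TensorProduct.finsuppScalarRight_apply_tmul_apply (R := A₀) (S := A₀) _ _ _).trans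
          ((fj.map_smul (p m) g).symm.trans (congrArg fj
            (TensorProduct.finsuppScalarRight_apply_tmul_apply (R := A₀) (S := A₀) g p m).symm))
    refine (key (z₁ - w₁)).symm.trans ?_
    rw [hd, map_zero, Finsupp.zero_apply]
  obtain ⟨l, ψ, hψ, hψ0⟩ := exists_stage_map_eq_zero G heq j
    ((e (z₁ - w₁)).support.image fun m => e (z₁ - w₁) m) (fun y hy => by
      obtain ⟨m, hm, rfl⟩ := Finset.mem_image.1 hy
      exact hcoef m hm)
  refine ⟨l, ψ.comp φ, fun x => (hψ _).trans (hφ x), ?_⟩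
  have h2 : ψ.toLinearMap.rTensor F (z₁ - w₁) = 0 := by
    rw [← e.symm_apply_apply (z₁ - w₁), ← Finsupp.sum_single (e (z₁ - w₁)), map_finsuppSum,
      map_finsuppSum]
    refine Finset.sum_eq_zero fun m hm => ?_
    show ψ.toLinearMap.rTensor F (e.symm (Finsupp.single m (e (z₁ - w₁) m))) = 0
    rw [TensorProduct.finsuppScalarRight_symm_apply_single, LinearMap.rTensor_tmul,
      AlgHom.toLinearMap_apply, hψ0 _ (Finset.mem_image_of_mem _ hm), TensorProduct.zero_tmul]
  have h3 : ∀ y : G i ⊗[A₀] F, (ψ.comp φ).toLinearMap.rTensor M (π.lTensor (G i) y) =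
      π.lTensor (G l) (ψ.toLinearMap.rTensor F (φ.toLinearMap.rTensor F y)) := fun y => by
    induction y using TensorProduct.induction_on with
    | zero => simp
    | add p q hp hq => simp only [map_add, hp, hq]
    | tmul g p => simp
  rw [h3]
  rw [map_sub, sub_eq_zero] at h2
  rw [show φ.toLinearMap.rTensor F zF = z₁ from rfl, h2]
  simp only [w₁, map_sum, LinearMap.rTensor_tmul, LinearMap.lTensor_tmul]
  refine Finset.sum_eq_zero fun x _ => ?_
  rw [show π (x.1.2 : F) = 0 from x.1.2.2, TensorProduct.tmul_zero]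

end GrothLib.FlatLimit
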