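import Groth.Agent.Lib.FlatModel.Stage
import Groth.Agent.Lib.FlatModel.Descent
import Groth.Agent.Lib.FibreFlat.Transfer

/-!
# Flatness at a prime over a colimit comes from a stage (EGA IV 11.2.6, pointwise algebra form)
-/

universe u v

namespace GrothLib.FlatLimit

open TensorProduct Function MvPolynomial GrothLib.FlatStage GrothLib.FibreFlat

attribute [local instance] MvPolynomial.algebraMvPolynomial

/-- Flatness of a localised module only depends on the module up to isomorphism. -/
theorem flat_localized_congr {R A M M' : Type u} [CommRing R] [CommRing A] [Algebra R A]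
    [AddCommGroup M] [Module A M] [Module R M] [IsScalarTower R A M]
    [AddCommGroup M'] [Module A M'] [Module R M'] [IsScalarTower R A M']
    (T : Submonoid A) (e : M ≃ₗ[A] M') [Module.Flat R (LocalizedModule T M)] :
    Module.Flat R (LocalizedModule T M') := by
  haveI : IsLocalizedModule T ((LocalizedModule.mkLinearMap T M') ∘ₗ e.toLinearMap) :=
    IsLocalizedModule.of_linearEquiv_right T (LocalizedModule.mkLinearMap T M') e
  exact Module.Flat.of_linearEquiv ((IsLocalizedModule.linearEquiv T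
    (LocalizedModule.mkLinearMap T M) ((LocalizedModule.mkLinearMap T M') ∘ₗ e.toLinearMap)).symm.restrictScalars R)

/-- Iterated base change of polynomial rings. -/
theorem isScalarTower_mvPolynomial (R S T : Type u) [CommRing R] [CommRing S] [CommRing T]
    [Algebra R S] [Algebra R T] [Algebra S T] [IsScalarTower R S T] (m : ℕ) :
    IsScalarTower (MvPolynomial (Fin m) R) (MvPolynomial (Fin m) S) (MvPolynomial (Fin m) T) :=
  IsScalarTower.of_algebraMap_eq fun x => by
    show MvPolynomial.map (algebraMap R T) x =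
      MvPolynomial.map (algebraMap S T) (MvPolynomial.map (algebraMap R S) x)
    rw [MvPolynomial.map_map, ← IsScalarTower.algebraMap_eq]

section

variable {A₀ A : Type u} [CommRing A₀] [CommRing A] [Algebra A₀ A]
  {ι : Type v} (G : ι → Type u) [∀ i, CommRing (G i)] [∀ i, Algebra A₀ (G i)]
  [∀ i, Algebra (G i) A] [∀ i, IsScalarTower A₀ (G i) A]

set_option maxHeartbeats 1000000 in
/-- **Flatness at a prime comes from a stage.** If `A` receives a family `G i` of `A₀`-algebras in
which finitely many elements of `A` lift and finitely many equalities hold eventually, a finitely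
presented module which is flat at `P` over `A` is flat at the image of `P` over some `G i`. -/
theorem exists_stage_flat_at
    (hlift : ∀ T : Finset A, ∃ i, (T : Set A) ⊆ Set.range (algebraMap (G i) A))
    (heq : ∀ i (p : Finset (G i × G i)),
      (∀ x ∈ p, algebraMap (G i) A x.1 = algebraMap (G i) A x.2) →
      ∃ j, ∃ ψ : G i →ₐ[A₀] G j, (∀ x, algebraMap (G j) A (ψ x) = algebraMap (G i) A x) ∧
        ∀ x ∈ p, ψ x.1 = ψ x.2)
    {m : ℕ} (M₀ : Type u) [AddCommGroup M₀] [Module (MvPolynomial (Fin m) A₀) M₀] [Module A₀ M₀]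
    [IsScalarTower A₀ (MvPolynomial (Fin m) A₀) M₀]
    [Module.FinitePresentation (MvPolynomial (Fin m) A₀) M₀]
    (P : Ideal (MvPolynomial (Fin m) A)) [P.IsPrime]
    [hP : Module.Flat A (LocalizedModule P.primeCompl
      (MvPolynomial (Fin m) A ⊗[MvPolynomial (Fin m) A₀] M₀))] :
    ∃ i, Module.Flat (G i)
      (LocalizedModule (P.comap (MvPolynomial.map (algebraMap (G i) A))).primeCompl
        (MvPolynomial (Fin m) (G i) ⊗[MvPolynomial (Fin m) A₀] M₀)) := by
  classical
  obtain ⟨T, hT⟩ := GrothLib.FlatModel.exists_model' (R := A₀) (m := m) M₀ (q := 0) Fin.elim0 fun j => j.elim0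
  let R' := Algebra.adjoin ℤ (T : Set A₀)
  haveI : IsNoetherianRing R' := isNoetherianRing_of_fg (Subalgebra.fg_adjoin_finset T)
  obtain ⟨r, N₀, -, ⟨eM₀⟩⟩ := hT R' fun x hx => ⟨⟨x, Algebra.subset_adjoin hx⟩, rfl⟩
  let N' := (Fin r → MvPolynomial (Fin m) R') ⧸ N₀
  haveI : Module.Finite (MvPolynomial (Fin m) R') N' := Module.Finite.quotient _ N₀
  -- push the model into `A`
  let T'' : Finset A := T.image (algebraMap A₀ A)
  let R'' := Algebra.adjoin ℤ (T'' : Set A)
  have hmem : ∀ x : R', algebraMap A₀ A x ∈ R'' := by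
    rintro ⟨x, hx⟩
    induction hx using Algebra.adjoin_induction with
    | mem y hy => exact Algebra.subset_adjoin (Finset.mem_coe.2 (Finset.mem_image_of_mem _ hy))
    | algebraMap c =>
      show algebraMap A₀ A ((algebraMap ℤ A₀) c) ∈ R''
      rw [eq_intCast (algebraMap ℤ A₀) c, map_intCast]
      exact intCast_mem R'' c
    | add y z _ _ hy hz => rw [map_add]; exact add_mem hy hz
    | mul y z _ _ hy hz => rw [map_mul]; exact mul_mem hy hz
  letI : Algebra R' R'' :=
    (((algebraMap A₀ A).comp R'.val.toRingHom).codRestrict R'' hmem).toAlgebra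
  haveI : IsScalarTower R' R'' A := IsScalarTower.of_algebraMap_eq fun x => rfl
  haveI := isScalarTower_mvPolynomial R' R'' A m
  haveI := isScalarTower_mvPolynomial R' A₀ A m
  let M'' := MvPolynomial (Fin m) R'' ⊗[MvPolynomial (Fin m) R'] N'
  letI : AddCommGroup M'' := inferInstanceAs
    (AddCommGroup (MvPolynomial (Fin m) R'' ⊗[MvPolynomial (Fin m) R'] N'))
  haveI : Module.Finite (MvPolynomial (Fin m) R'') M'' := Module.Finite.base_change _ _ _
  let MA := MvPolynomial (Fin m) A ⊗[MvPolynomial (Fin m) A₀] M₀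
  let eA : MvPolynomial (Fin m) A ⊗[MvPolynomial (Fin m) R''] M'' ≃ₗ[MvPolynomial (Fin m) A] MA :=
    AlgebraTensorModule.cancelBaseChange (MvPolynomial (Fin m) R') (MvPolynomial (Fin m) R'')
        (MvPolynomial (Fin m) A) (MvPolynomial (Fin m) A) N' ≪≫ₗ
      (AlgebraTensorModule.cancelBaseChange (MvPolynomial (Fin m) R') (MvPolynomial (Fin m) A₀)
        (MvPolynomial (Fin m) A) (MvPolynomial (Fin m) A) N').symm ≪≫ₗ
      AlgebraTensorModule.congr (LinearEquiv.refl (MvPolynomial (Fin m) A) (MvPolynomial (Fin m) A))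
        eM₀
  obtain ⟨R₂, _, _, _, _, _, hft, -, hflat⟩ :=
    GrothLib.FlatModel.exists_flat_stage_at MA T'' M'' eA P hP
  letI : Algebra R' R₂ := ((algebraMap R'' R₂).comp (algebraMap R' R'')).toAlgebra
  haveI : IsScalarTower R' R'' R₂ := IsScalarTower.of_algebraMap_eq fun x => rfl
  haveI := isScalarTower_mvPolynomial R' R'' R₂ m
  -- map the stage to some `G j`
  haveI : Algebra.FinitePresentation ℤ R₂ := Algebra.FinitePresentation.of_finiteType.mp hft
  obtain ⟨k, π, hπ, ⟨gens, hgens⟩⟩ := ‹Algebra.FinitePresentation ℤ R₂›.out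
  obtain ⟨i, hi⟩ := hlift (Finset.univ.image fun l => algebraMap R₂ A (π (X l)))
  choose y hy using fun l => hi (Finset.mem_coe.2
    (Finset.mem_image_of_mem (fun l => algebraMap R₂ A (π (X l))) (Finset.mem_univ l)))
  let ψ₀ : MvPolynomial (Fin k) ℤ →+* G i := MvPolynomial.eval₂Hom (Int.castRingHom _) y
  have hψ₀ : ∀ x, algebraMap (G i) A (ψ₀ x) = algebraMap R₂ A (π x) := by
    intro x
    refine RingHom.congr_fun (MvPolynomial.ringHom_ext (f := (algebraMap (G i) A).comp ψ₀)
      (g := (algebraMap R₂ A).comp π.toRingHom) (fun c => ?_) (fun l => ?_)) x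
    · simp
    · simp [ψ₀, hy]
  choose sec hsec using hπ
  have hR'A : ∀ x : R', algebraMap R₂ A (algebraMap R' R₂ x) = algebraMap A₀ A x := fun x => by
    show algebraMap R₂ A (algebraMap R'' R₂ (algebraMap R' R'' x)) = _
    rw [← IsScalarTower.algebraMap_apply R'' R₂ A]
    rfl
  let pairs : Finset (G i × G i) := gens.image (fun g => (ψ₀ g, 0)) ∪
    T.attach.image fun t => (ψ₀ (sec (algebraMap R' R₂ ⟨t.1, Algebra.subset_adjoin t.2⟩)),
      algebraMap A₀ (G i) t.1)
  obtain ⟨j, φ, hφA, hφ⟩ := heq i pairs fun x hx => by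
    rcases Finset.mem_union.1 hx with hx | hx
    · obtain ⟨g, hg, rfl⟩ := Finset.mem_image.1 hx
      have : π g = 0 := RingHom.mem_ker.1 (hgens ▸ Ideal.subset_span hg)
      simp [hψ₀, this]
    · obtain ⟨t, -, rfl⟩ := Finset.mem_image.1 hx
      dsimp only
      rw [hψ₀, hsec, ← IsScalarTower.algebraMap_apply A₀ (G i) A]
      exact hR'A _
  have hker : RingHom.ker π.toRingHom ≤ RingHom.ker (φ.toRingHom.comp ψ₀) := by
    show RingHom.ker π.toRingHom ≤ _
    rw [← hgens, Ideal.span_le]
    intro g hg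
    have := hφ (ψ₀ g, 0) (Finset.mem_union_left _ (Finset.mem_image_of_mem (fun g => (ψ₀ g, (0 : G i))) hg))
    show φ (ψ₀ g) = 0
    rw [this, map_zero]
  let ρ : R₂ →+* G j :=
    RingHom.liftOfSurjective π.toRingHom (fun x => ⟨sec x, hsec x⟩) ⟨φ.toRingHom.comp ψ₀, hker⟩
  have hρ : ∀ x, ρ (π x) = φ (ψ₀ x) := fun x =>
    RingHom.liftOfRightInverse_comp_apply _ _ _ ⟨φ.toRingHom.comp ψ₀, hker⟩ x
  letI : Algebra R₂ (G j) := ρ.toAlgebra
  haveI : IsScalarTower R₂ (G j) A := IsScalarTower.of_algebraMap_eq fun x => by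
    show _ = algebraMap (G j) A (ρ x)
    rw [← hsec x, hρ, hφA, hψ₀]
  haveI : IsScalarTower R' R₂ (G j) := IsScalarTower.of_algebraMap_eq fun x => by
    obtain ⟨x, hx⟩ := x
    show algebraMap A₀ (G j) x = ρ (algebraMap R' R₂ ⟨x, hx⟩)
    induction hx using Algebra.adjoin_induction with
    | mem t ht =>
      have := hφ (ψ₀ (sec (algebraMap R' R₂ ⟨t, Algebra.subset_adjoin ht⟩)), algebraMap A₀ (G i) t)
        (Finset.mem_union_right _ (Finset.mem_image.2 ⟨⟨t, ht⟩, Finset.mem_attach _ _, rfl⟩))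
      dsimp only at this
      rw [φ.commutes, ← hρ, hsec] at this
      exact this.symm
    | algebraMap c =>
      rw [show (⟨algebraMap ℤ A₀ c, Subalgebra.algebraMap_mem _ c⟩ : R') = (c : R') from
        Subtype.ext (by simp), map_intCast, map_intCast, eq_intCast (algebraMap ℤ A₀) c, map_intCast]
    | add y z hy' hz' hy hz =>
      rw [map_add, hy, hz, ← map_add ρ, ← map_add (algebraMap R' R₂)]
      rfl
    | mul y z hy' hz' hy hz =>
      rw [map_mul, hy, hz, ← map_mul ρ, ← map_mul (algebraMap R' R₂)]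
      rfl
  haveI := isScalarTower_mvPolynomial R' A₀ (G j) m
  refine ⟨j, ?_⟩
  let Q := P.comap (MvPolynomial.map (algebraMap (G j) A))
  have hQ : Q.comap (MvPolynomial.map (algebraMap R₂ (G j))) =
      P.comap (MvPolynomial.map (algebraMap R₂ A)) := by
    rw [Ideal.comap_comap]
    congr 1
    refine RingHom.ext fun x => ?_
    rw [RingHom.comp_apply, MvPolynomial.map_map, ← IsScalarTower.algebraMap_eq]
  let N₂ := MvPolynomial (Fin m) R₂ ⊗[MvPolynomial (Fin m) R'] N'
  have key : ∀ (Q₂ : Ideal (MvPolynomial (Fin m) R₂)) [Q₂.IsPrime],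
      Q₂ = P.comap (MvPolynomial.map (algebraMap R₂ A)) →
      Module.Flat R₂ (LocalizedModule Q₂.primeCompl N₂) := by
    rintro Q₂ _ rfl
    haveI := hflat
    exact flat_localized_congr _ (AlgebraTensorModule.cancelBaseChange (MvPolynomial (Fin m) R')
      (MvPolynomial (Fin m) R'') (MvPolynomial (Fin m) R₂) (MvPolynomial (Fin m) R₂) N')
  haveI := key _ hQ
  haveI : Module.Flat (G j)
      (LocalizedModule Q.primeCompl (MvPolynomial (Fin m) (G j) ⊗[MvPolynomial (Fin m) R'] N')) :=
    flat_of_stage (LS := LocalizedModule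
        (Q.comap (MvPolynomial.map (algebraMap R₂ (G j)))).primeCompl N₂)
      (L := LocalizedModule Q.primeCompl (MvPolynomial (Fin m) (G j) ⊗[MvPolynomial (Fin m) R'] N'))
      N' R₂ (G j) Q
      (LocalizedModule.mkLinearMap _ N₂) (LocalizedModule.mkLinearMap Q.primeCompl _)
  exact flat_localized_congr _
    ((AlgebraTensorModule.cancelBaseChange (MvPolynomial (Fin m) R') (MvPolynomial (Fin m) A₀)
      (MvPolynomial (Fin m) (G j)) (MvPolynomial (Fin m) (G j)) N').symm ≪≫ₗ
      AlgebraTensorModule.congr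
        (LinearEquiv.refl (MvPolynomial (Fin m) (G j)) (MvPolynomial (Fin m) (G j))) eM₀)

end

end GrothLib.FlatLimit
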