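import Groth.Agent.Lib.FlatLimit.Vanish
import Groth.Agent.Lib.FlatLimit.Pointwise
import Groth.Agent.Lib.FlatFP.InjCoker
import Groth.Agent.Lib.FibreFlat.OpenLocus
import Mathlib.RingTheory.IsTensorProduct

/-!
# Injective at a prime with flat cokernel, along a colimit of rings
-/

universe u v

namespace GrothLib.FlatLimit

open TensorProduct Function

attribute [local instance] Algebra.TensorProduct.rightAlgebra

section

variable {A₀ B₀ S T BS BT : Type u} [CommRing A₀] [CommRing B₀] [CommRing S] [CommRing T]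
  [CommRing BS] [CommRing BT] [Algebra A₀ B₀] [Algebra A₀ S] [Algebra A₀ T] [Algebra S T]
  [IsScalarTower A₀ S T] [Algebra A₀ BS] [Algebra S BS] [Algebra B₀ BS] [IsScalarTower A₀ S BS]
  [IsScalarTower A₀ B₀ BS] [Algebra.IsPushout A₀ S B₀ BS]
  [Algebra A₀ BT] [Algebra T BT] [Algebra B₀ BT] [IsScalarTower A₀ T BT]
  [IsScalarTower A₀ B₀ BT] [Algebra.IsPushout A₀ T B₀ BT]
  (β : BS →+* BT) (hβS : ∀ s, β (algebraMap S BS s) = algebraMap T BT (algebraMap S T s))
  (hβB : ∀ b, β (algebraMap B₀ BS b) = algebraMap B₀ BT b)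

/-- `β` on tensor products with a `B₀`-module. -/
noncomputable def baseMap (N₀ : Type u) [AddCommGroup N₀] [Module B₀ N₀] :
    BS ⊗[B₀] N₀ →ₗ[B₀] BT ⊗[B₀] N₀ :=
  ({ β with commutes' := hβB } : BS →ₐ[B₀] BT).toLinearMap.rTensor N₀

@[simp] theorem baseMap_tmul (N₀ : Type u) [AddCommGroup N₀] [Module B₀ N₀] (b : BS) (n : N₀) :
    baseMap β hβB N₀ (b ⊗ₜ n) = β b ⊗ₜ n := rfl

theorem baseMap_smul (N₀ : Type u) [AddCommGroup N₀] [Module B₀ N₀] (b : BS)
    (x : BS ⊗[B₀] N₀) : baseMap β hβB N₀ (b • x) = β b • baseMap β hβB N₀ x := by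
  induction x using TensorProduct.induction_on with
  | zero => simp
  | add p q hp hq => simp only [smul_add, map_add, hp, hq]
  | tmul c n => simp [smul_tmul']

theorem baseMap_baseChange {N₀ M₀ : Type u} [AddCommGroup N₀] [Module B₀ N₀] [AddCommGroup M₀]
    [Module B₀ M₀] (u : N₀ →ₗ[B₀] M₀) (x : BS ⊗[B₀] N₀) :
    u.baseChange BT (baseMap β hβB N₀ x) = baseMap β hβB M₀ (u.baseChange BS x) := by
  induction x using TensorProduct.induction_on with
  | zero => simp
  | add p q hp hq => simp only [map_add, hp, hq]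
  | tmul c n => simp

include hβS in
/-- The kernel after base change, near a prime where the cokernel is flat. -/
theorem exists_smul_mem_span_baseMap {N₀ M₀ C₀ : Type u} [AddCommGroup N₀] [Module B₀ N₀]
    [AddCommGroup M₀] [Module B₀ M₀] [AddCommGroup C₀] [Module B₀ C₀]
    [Module A₀ N₀] [IsScalarTower A₀ B₀ N₀] [Module A₀ M₀] [IsScalarTower A₀ B₀ M₀]
    (u₀ : N₀ →ₗ[B₀] M₀) (π₀ : M₀ →ₗ[B₀] C₀) (hex : Exact u₀ π₀) (hπ : Surjective π₀)
    (p : Ideal BS) [p.IsPrime] (hflat : Module.Flat S (LocalizedModule p.primeCompl (BS ⊗[B₀] C₀)))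
    (k : Set (BS ⊗[B₀] N₀))
    (hk : ∀ z, u₀.baseChange BS z = 0 → ∃ t ∉ p, t • z ∈ Submodule.span BS k)
    (z : BT ⊗[B₀] N₀) (hz : u₀.baseChange BT z = 0) :
    ∃ t ∉ p, β t • z ∈ Submodule.span BT (baseMap β hβB N₀ '' k) := by
  haveI := hflat
  -- `baseMap` as a base change `S → T`
  have mkjS : ∀ (X : Type u) [AddCommGroup X] [Module B₀ X] [Module S (BT ⊗[B₀] X)]
      [IsScalarTower S T (BT ⊗[B₀] X)],
      ∃ j : BS ⊗[B₀] X →ₗ[S] BT ⊗[B₀] X, ∀ x, j x = baseMap β hβB X x := fun X _ _ _ _ => by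
    refine ⟨{ toFun := baseMap β hβB X, map_add' := map_add _, map_smul' := fun s x => ?_ },
      fun _ => rfl⟩
    show baseMap β hβB X (s • x) = s • baseMap β hβB X x
    rw [← algebraMap_smul BS s x, baseMap_smul, hβS, algebraMap_smul, algebraMap_smul]
  letI : Module S (BT ⊗[B₀] N₀) := Module.compHom _ (algebraMap S T)
  haveI : IsScalarTower S T (BT ⊗[B₀] N₀) := IsScalarTower.of_algebraMap_smul fun _ _ => rfl
  letI : Module S (BT ⊗[B₀] M₀) := Module.compHom _ (algebraMap S T)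
  haveI : IsScalarTower S T (BT ⊗[B₀] M₀) := IsScalarTower.of_algebraMap_smul fun _ _ => rfl
  have hbc : ∀ (X : Type u) [AddCommGroup X] [Module B₀ X] [Module A₀ X] [IsScalarTower A₀ B₀ X]
      [Module S (BT ⊗[B₀] X)] [IsScalarTower S T (BT ⊗[B₀] X)]
      (j : BS ⊗[B₀] X →ₗ[S] BT ⊗[B₀] X), (∀ x, j x = baseMap β hβB X x) → IsBaseChange T j := by
    intro X _ _ _ _ _ _ j hj
    have h1 : IsBaseChange S ((TensorProduct.mk B₀ BS X 1).restrictScalars A₀) :=
      IsBaseChange.of_equiv (Algebra.IsPushout.cancelBaseChange A₀ S B₀ BS X).symm fun x => by simp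
    have h2 : IsBaseChange T ((TensorProduct.mk B₀ BT X 1).restrictScalars A₀) :=
      IsBaseChange.of_equiv (Algebra.IsPushout.cancelBaseChange A₀ T B₀ BT X).symm fun x => by simp
    haveI : IsScalarTower A₀ S (BT ⊗[B₀] X) := IsScalarTower.of_algebraMap_smul fun r x => by
      rw [← algebraMap_smul T (algebraMap A₀ S r) x, ← IsScalarTower.algebraMap_apply,
        algebraMap_smul]
    refine IsBaseChange.of_comp h1 ?_
    convert h2 using 1
    ext x
    simp [hj]
  obtain ⟨jN, hjN⟩ := mkjS N₀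
  obtain ⟨jM, hjM⟩ := mkjS M₀
  have hN := hbc N₀ jN hjN
  have hM := hbc M₀ jM hjM
  -- transport to `N ⊗[S] T`
  let ΘN : (BS ⊗[B₀] N₀) ⊗[S] T ≃ₗ[S] BT ⊗[B₀] N₀ :=
    TensorProduct.comm S _ T ≪≫ₗ hN.equiv.restrictScalars S
  let ΘM : (BS ⊗[B₀] M₀) ⊗[S] T ≃ₗ[S] BT ⊗[B₀] M₀ :=
    TensorProduct.comm S _ T ≪≫ₗ hM.equiv.restrictScalars S
  have hΘN : ∀ (x : BS ⊗[B₀] N₀) (a : T), ΘN (x ⊗ₜ a) = a • baseMap β hβB N₀ x := fun x a => by
    simp [ΘN, IsBaseChange.equiv_tmul, hjN]
  have hΘM : ∀ (x : BS ⊗[B₀] M₀) (a : T), ΘM (x ⊗ₜ a) = a • baseMap β hβB M₀ x := fun x a => by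
    simp [ΘM, IsBaseChange.equiv_tmul, hjM]
  have hnat : ∀ w, ΘM (AlgebraTensorModule.rTensor S T (u₀.baseChange BS) w) =
      u₀.baseChange BT (ΘN w) := fun w => by
    induction w using TensorProduct.induction_on with
    | zero => simp
    | add p q hp hq => simp only [map_add, hp, hq]
    | tmul x a =>
      rw [AlgebraTensorModule.rTensor_tmul, hΘM, hΘN, LinearMap.map_smul_of_tower,
        baseMap_baseChange]
  have hsmul : ∀ (t : BS) w, ΘN (t • w) = β t • ΘN w := fun t w => by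
    induction w using TensorProduct.induction_on with
    | zero => simp
    | add p q hp hq => simp only [smul_add, map_add, hp, hq]
    | tmul x a => rw [smul_tmul', hΘN, hΘN, baseMap_smul, smul_comm]
  have hexS : Exact (u₀.baseChange BS) (π₀.baseChange BS) := lTensor_exact BS hex hπ
  obtain ⟨t, ht, hmem⟩ := FlatFP.exists_smul_mem_of_baseChange (S := S) T (u₀.baseChange BS)
    (π₀.baseChange BS) hexS (LinearMap.lTensor_surjective BS hπ) p k hk (ΘN.symm z) (by
      apply ΘM.injective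
      rw [hnat, ΘN.apply_symm_apply, hz, map_zero])
  obtain ⟨w, hw⟩ := hmem
  refine ⟨t, ht, ?_⟩
  have h3 : β t • z = ΘN (AlgebraTensorModule.rTensor S T (Submodule.span BS k).subtype w) := by
    rw [hw, hsmul, ΘN.apply_symm_apply]
  rw [h3]
  clear hw h3
  induction w using TensorProduct.induction_on with
  | zero => simp
  | add a b ha hb => simp only [map_add]; exact add_mem ha hb
  | tmul x a =>
    rw [AlgebraTensorModule.rTensor_tmul, hΘN]
    refine Submodule.smul_of_tower_mem _ a ?_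
    obtain ⟨x, hx⟩ := x
    induction hx using Submodule.span_induction with
    | mem y hy => exact Submodule.subset_span ⟨y, hy, rfl⟩
    | zero => simp
    | add p q _ _ hp hq =>
      show baseMap β hβB N₀ (p + q) ∈ _
      rw [map_add]
      exact add_mem hp hq
    | smul b y _ hy =>
      show baseMap β hβB N₀ (b • y) ∈ _
      rw [baseMap_smul]
      exact Submodule.smul_mem _ _ hy

include hβS hβB in
/-- **Injectivity at a prime with flat cokernel passes to base changes.** -/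
theorem inj_at_of_stage {N₀ M₀ C₀ : Type u} [AddCommGroup N₀] [Module B₀ N₀]
    [AddCommGroup M₀] [Module B₀ M₀] [AddCommGroup C₀] [Module B₀ C₀]
    [Module A₀ N₀] [IsScalarTower A₀ B₀ N₀] [Module A₀ M₀] [IsScalarTower A₀ B₀ M₀]
    (u₀ : N₀ →ₗ[B₀] M₀) (π₀ : M₀ →ₗ[B₀] C₀) (hex : Exact u₀ π₀) (hπ : Surjective π₀)
    (q : Ideal BT) [q.IsPrime]
    (hflat : Module.Flat S (LocalizedModule (q.comap β).primeCompl (BS ⊗[B₀] C₀)))
    (hinj : ∀ z, u₀.baseChange BS z = 0 → ∃ t ∉ q.comap β, t • z = 0)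
    (z : BT ⊗[B₀] N₀) (hz : u₀.baseChange BT z = 0) : ∃ t ∉ q, t • z = 0 := by
  obtain ⟨t, ht, hm⟩ := exists_smul_mem_span_baseMap (A₀ := A₀) β hβS hβB u₀ π₀ hex hπ (q.comap β) hflat ∅
    (fun z hz => by
      obtain ⟨t, ht, h⟩ := hinj z hz
      exact ⟨t, ht, by rw [h]; exact zero_mem _⟩) z hz
  rw [Set.image_empty, Submodule.span_empty, Submodule.mem_bot] at hm
  exact ⟨β t, ht, hm⟩

end

section

variable {A₀ A B₀ : Type u} [CommRing A₀] [CommRing A] [CommRing B₀] [Algebra A₀ A] [Algebra A₀ B₀]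
  [Algebra.FinitePresentation A₀ B₀]
  {ι : Type v} (G : ι → Type u) [∀ i, CommRing (G i)] [∀ i, Algebra A₀ (G i)]
  [∀ i, Algebra (G i) A] [∀ i, IsScalarTower A₀ (G i) A]

variable (A) in
/-- The map from a stage to the limit. -/
noncomputable def toLimit (i : ι) : G i ⊗[A₀] B₀ →ₐ[A₀] A ⊗[A₀] B₀ :=
  Algebra.TensorProduct.map (IsScalarTower.toAlgHom A₀ (G i) A) (AlgHom.id A₀ B₀)

set_option maxHeartbeats 1000000 in
/-- **Injectivity at a prime with flat cokernel comes from a stage.** -/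
theorem exists_stage_inj
    (hdir : ∀ i i' : ι, ∃ j, ∃ (φ : G i →ₐ[A₀] G j) (φ' : G i' →ₐ[A₀] G j),
      (∀ x, algebraMap (G j) A (φ x) = algebraMap (G i) A x) ∧
      ∀ x, algebraMap (G j) A (φ' x) = algebraMap (G i') A x)
    (hlift : ∀ T : Finset A, ∃ i, (T : Set A) ⊆ Set.range (algebraMap (G i) A))
    (heq : ∀ i (p : Finset (G i × G i)),
      (∀ x ∈ p, algebraMap (G i) A x.1 = algebraMap (G i) A x.2) →
      ∃ j, ∃ ψ : G i →ₐ[A₀] G j, (∀ x, algebraMap (G j) A (ψ x) = algebraMap (G i) A x) ∧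
        ∀ x ∈ p, ψ x.1 = ψ x.2)
    {N₀ M₀ C₀ : Type u} [AddCommGroup N₀] [Module B₀ N₀] [AddCommGroup M₀] [Module B₀ M₀]
    [AddCommGroup C₀] [Module B₀ C₀] [Module A₀ N₀] [IsScalarTower A₀ B₀ N₀] [Module A₀ M₀]
    [IsScalarTower A₀ B₀ M₀] [Module A₀ C₀] [IsScalarTower A₀ B₀ C₀]
    [Module.FinitePresentation B₀ N₀] [Module.FinitePresentation B₀ M₀]
    [Module.FinitePresentation B₀ C₀]
    (u₀ : N₀ →ₗ[B₀] M₀) (π₀ : M₀ →ₗ[B₀] C₀) (hex : Exact u₀ π₀) (hπ : Surjective π₀)
    (q : Ideal (A ⊗[A₀] B₀)) [q.IsPrime] (i : ι)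
    (hflat : Module.Flat (G i)
      (LocalizedModule (q.comap (toLimit A G i).toRingHom).primeCompl ((G i ⊗[A₀] B₀) ⊗[B₀] C₀)))
    (hinj : ∀ z, u₀.baseChange (A ⊗[A₀] B₀) z = 0 → ∃ t ∉ q, t • z = 0) :
    ∃ l, Module.Flat (G l)
        (LocalizedModule (q.comap (toLimit A G l).toRingHom).primeCompl ((G l ⊗[A₀] B₀) ⊗[B₀] C₀)) ∧
      ∀ z, u₀.baseChange (G l ⊗[A₀] B₀) z = 0 →
        ∃ t ∉ q.comap (toLimit (B₀ := B₀) A G l).toRingHom, t • z = 0 := by
  classical
  let Bi := G i ⊗[A₀] B₀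
  let p := q.comap (toLimit A G i).toRingHom
  haveI : Algebra.FinitePresentation (G i) Bi := inferInstance
  obtain ⟨_, ⟨g, rfl⟩, hgp, hg⟩ :=
    PrimeSpectrum.isTopologicalBasis_basic_opens.exists_subset_of_mem_open
      (show (⟨p, inferInstance⟩ : PrimeSpectrum Bi) ∈ {Q : PrimeSpectrum Bi |
        Module.Flat (G i) (LocalizedModule Q.asIdeal.primeCompl (Bi ⊗[B₀] C₀))} from hflat)
      GrothLib.FibreFlat.isOpen_flat_locus
  obtain ⟨k, hk0, hk⟩ := FlatFP.exists_fg_ker_away (A := G i) (u₀.baseChange Bi) (π₀.baseChange Bi)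
    (lTensor_exact Bi hex hπ) (LinearMap.lTensor_surjective Bi hπ) g
    fun Q hQ hgQ => hg (a := ⟨Q, hQ⟩) hgQ
  -- transition maps
  let tr : ∀ {a b : ι}, (G a →ₐ[A₀] G b) → (G a ⊗[A₀] B₀ →ₐ[A₀] G b ⊗[A₀] B₀) := fun ψ =>
    Algebra.TensorProduct.map ψ (AlgHom.id A₀ B₀)
  have trB : ∀ {a b : ι} (ψ : G a →ₐ[A₀] G b) (x : B₀),
      (tr ψ).toRingHom (algebraMap B₀ (G a ⊗[A₀] B₀) x) = algebraMap B₀ (G b ⊗[A₀] B₀) x :=
    fun ψ x => by
      show tr ψ ((1 : G _) ⊗ₜ x) = (1 : G _) ⊗ₜ x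
      simp [tr]
  have limB : ∀ (a : ι) (x : B₀),
      (toLimit A G a).toRingHom (algebraMap B₀ (G a ⊗[A₀] B₀) x) = algebraMap B₀ (A ⊗[A₀] B₀) x :=
    fun a x => by
      show toLimit A G a ((1 : G a) ⊗ₜ x) = (1 : A) ⊗ₜ x
      simp [toLimit]
  have limtr : ∀ {a b : ι} (ψ : G a →ₐ[A₀] G b),
      (∀ x, algebraMap (G b) A (ψ x) = algebraMap (G a) A x) →
      ∀ y, toLimit A G b (tr ψ y) = toLimit (B₀ := B₀) A G a y := fun ψ hψ y => by
    induction y using TensorProduct.induction_on with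
    | zero => simp
    | add p q hp hq => simp only [map_add, hp, hq]
    | tmul x b => simp [toLimit, tr, hψ]
  let jlim := fun a : ι => baseMap (toLimit A G a).toRingHom (limB a) N₀
  let jtr := fun {a b : ι} (ψ : G a →ₐ[A₀] G b) => baseMap (tr ψ).toRingHom (trB ψ) N₀
  have jlimtr : ∀ {a b : ι} (ψ : G a →ₐ[A₀] G b),
      (∀ x, algebraMap (G b) A (ψ x) = algebraMap (G a) A x) →
      ∀ y, jlim b (jtr ψ y) = jlim a y := fun ψ hψ y => by
    induction y using TensorProduct.induction_on with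
    | zero => simp
    | add p q hp hq => simp only [map_add, hp, hq]
    | tmul x n =>
      simp only [jlim, jtr, baseMap_tmul]
      congr 1
      exact limtr ψ hψ x
  -- the generators die in the limit
  have hdie : ∀ x : k, ∃ t ∉ q, t • jlim i x.1 = 0 := fun x => hinj _ (by
    rw [baseMap_baseChange, hk0 x.1 x.2, map_zero])
  choose t ht htx using hdie
  let s := ∏ x, t x
  have hs : s ∉ q := fun h => by
    obtain ⟨x, -, hx⟩ := (Ideal.IsPrime.prod_mem_iff (p := q)).mp h
    exact ht x hx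
  obtain ⟨T, hT⟩ := TensorProduct.exists_finset s
  obtain ⟨i₁, hi₁⟩ := hlift (T.image Prod.fst)
  choose a ha using fun x : T => hi₁ (Finset.mem_coe.2 (Finset.mem_image_of_mem Prod.fst x.2))
  obtain ⟨j, φ, φ', hφ, hφ'⟩ := hdir i i₁
  let sj : G j ⊗[A₀] B₀ := ∑ x : T, φ' (a x) ⊗ₜ x.1.2
  have hsj : toLimit A G j sj = s := by
    rw [map_sum, hT, ← Finset.sum_coe_sort T]
    refine Finset.sum_congr rfl fun x _ => ?_
    show algebraMap (G j) A (φ' (a x)) ⊗ₜ x.1.2 = x.1.1 ⊗ₜ x.1.2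
    rw [hφ', ha]
  have hzero : ∀ x : k, jlim j (sj • jtr φ x.1) = 0 := fun x => by
    simp only [jlim]
    rw [baseMap_smul]
    show toLimit A G j sj • jlim j (jtr φ x.1) = 0
    rw [hsj, jlimtr φ hφ]
    obtain ⟨c, hc⟩ := Finset.dvd_prod_of_mem t (Finset.mem_univ x)
    rw [show s = t x * c from hc, mul_comm, mul_smul, htx, smul_zero]
  -- one stage kills them all
  have hkill : ∀ s' : Finset k, ∃ l, ∃ ψ : G j →ₐ[A₀] G l,
      (∀ y, algebraMap (G l) A (ψ y) = algebraMap (G j) A y) ∧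
      ∀ x ∈ s', jtr ψ (sj • jtr φ x.1) = 0 := by
    intro s'
    induction s' using Finset.induction_on with
    | empty => exact ⟨j, AlgHom.id A₀ _, fun _ => rfl, by simp⟩
    | insert x s' _ ih =>
      obtain ⟨l, ψ, hψ, hψs⟩ := ih
      let y := jtr ψ (sj • jtr φ x.1)
      have hy : jlim l y = 0 := (jlimtr ψ hψ _).trans (hzero x)
      let e := Algebra.IsPushout.cancelBaseChange A₀ (G l) B₀ (G l ⊗[A₀] B₀) N₀
      let eA := Algebra.IsPushout.cancelBaseChange A₀ A B₀ (A ⊗[A₀] B₀) N₀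
      have hcomm : ∀ w : G l ⊗[A₀] N₀, jlim l (e.symm w) =
          eA.symm ((IsScalarTower.toAlgHom A₀ (G l) A).toLinearMap.rTensor N₀ w) := fun w => by
        induction w using TensorProduct.induction_on with
        | zero => simp
        | add p q hp hq => simp only [map_add, hp, hq]
        | tmul g n => simp [e, eA, jlim, toLimit]
      obtain ⟨l', ψ', hψ', h0⟩ := exists_stage_tmul_eq_zero G hdir hlift heq l (e y) (by
        apply eA.symm.injective
        rw [← hcomm, e.symm_apply_apply, hy, map_zero])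
      let e' := Algebra.IsPushout.cancelBaseChange A₀ (G l') B₀ (G l' ⊗[A₀] B₀) N₀
      have hcomm' : ∀ w : G l ⊗[A₀] N₀,
          jtr ψ' (e.symm w) = e'.symm (ψ'.toLinearMap.rTensor N₀ w) := fun w => by
        induction w using TensorProduct.induction_on with
        | zero => simp
        | add p q hp hq => simp only [map_add, hp, hq]
        | tmul g n => simp [e, e', jtr, tr]
      have hcompψ : ∀ w, jtr (ψ'.comp ψ) w = jtr ψ' (jtr ψ w) := fun w => by
        induction w using TensorProduct.induction_on with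
        | zero => simp
        | add p q hp hq => simp only [map_add, hp, hq]
        | tmul b n =>
          simp only [jtr, baseMap_tmul]
          congr 1
          show tr (ψ'.comp ψ) b = tr ψ' (tr ψ b)
          induction b using TensorProduct.induction_on with
          | zero => simp
          | add p q hp hq => simp only [map_add, hp, hq]
          | tmul g c => simp [tr]
      refine ⟨l', ψ'.comp ψ, fun y => (hψ' _).trans (hψ y), fun x' hx' => ?_⟩
      rw [hcompψ]
      rcases Finset.mem_insert.1 hx' with rfl | hx'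
      · rw [show jtr ψ (sj • jtr φ x'.1) = e.symm (e y) from (e.symm_apply_apply y).symm, hcomm',
          h0, map_zero]
      · rw [hψs x' hx', map_zero]
  obtain ⟨l, ψ, hψ, hψs⟩ := hkill Finset.univ
  let θ : G i →ₐ[A₀] G l := ψ.comp φ
  have hθ : ∀ x, algebraMap (G l) A (θ x) = algebraMap (G i) A x := fun x =>
    (hψ _).trans (hφ x)
  letI : Algebra (G i) (G l) := θ.toRingHom.toAlgebra
  haveI : IsScalarTower A₀ (G i) (G l) :=
    IsScalarTower.of_algebraMap_eq fun x => (θ.commutes x).symm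
  have hβS : ∀ x, (tr θ).toRingHom (algebraMap (G i) Bi x) =
      algebraMap (G l) (G l ⊗[A₀] B₀) (algebraMap (G i) (G l) x) := fun x => by
    show tr θ (x ⊗ₜ 1) = θ x ⊗ₜ 1
    simp [tr]
  have hpl : (q.comap (toLimit A G l).toRingHom).comap (tr θ).toRingHom = p := by
    ext y
    show toLimit A G l (tr θ y) ∈ q ↔ toLimit A G i y ∈ q
    rw [limtr θ hθ]
  refine ⟨l, flat_at_of_stage (A₀ := A₀) (A := G l) (B₀ := B₀) (B := G l ⊗[A₀] B₀) (S := G i)
    (BS := Bi) C₀ (tr θ).toRingHom hβS (trB θ) (q.comap (toLimit A G l).toRingHom) ?_, fun z hz => ?_⟩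
  · have hcong : ∀ (P P' : Ideal Bi) [P.IsPrime] [P'.IsPrime], P = P' →
        Module.Flat (G i) (LocalizedModule P.primeCompl (Bi ⊗[B₀] C₀)) →
        Module.Flat (G i) (LocalizedModule P'.primeCompl (Bi ⊗[B₀] C₀)) := by
      rintro P P' _ _ rfl h
      exact h
    exact hcong _ _ hpl.symm hflat
  · obtain ⟨t', ht', hm⟩ := exists_smul_mem_span_baseMap (A₀ := A₀) (tr θ).toRingHom hβS (trB θ) u₀ π₀ hex hπ
      p hflat (k : Set _) (fun w hw => by
        obtain ⟨n, hn⟩ := hk w hw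
        exact ⟨g ^ n, fun h => hgp (Ideal.IsPrime.mem_of_pow_mem inferInstance n h), hn⟩) z hz
    refine ⟨tr ψ sj * tr θ t', fun h => ?_, ?_⟩
    · rw [Ideal.mem_comap] at h
      change toLimit A G l (tr ψ sj * tr θ t') ∈ q at h
      rw [map_mul, limtr ψ hψ, limtr θ hθ, hsj] at h
      exact (Ideal.IsPrime.mem_or_mem inferInstance h).elim hs ht'
    · rw [mul_smul]
      generalize tr θ t' • z = w at hm ⊢
      induction hm using Submodule.span_induction with
      | mem w hw =>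
        obtain ⟨x, hx, rfl⟩ := hw
        have hcomp : ∀ y, jtr θ y = jtr ψ (jtr φ y) := fun y => by
          induction y using TensorProduct.induction_on with
          | zero => simp
          | add p q hp hq => simp only [map_add, hp, hq]
          | tmul b n =>
            simp only [jtr, baseMap_tmul]
            congr 1
            show tr θ b = tr ψ (tr φ b)
            induction b using TensorProduct.induction_on with
            | zero => simp
            | add p q hp hq => simp only [map_add, hp, hq]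
            | tmul g c => simp [tr, θ]
        show tr ψ sj • jtr θ x = 0
        rw [hcomp]
        have := hψs ⟨x, hx⟩ (Finset.mem_univ _)
        simp only [jtr] at this
        rw [baseMap_smul] at this
        exact this
      | zero => exact smul_zero _
      | add a b _ _ ha hb => rw [smul_add, ha, hb, add_zero]
      | smul c a _ ha => rw [smul_comm, ha, smul_zero]

end

end GrothLib.FlatLimit
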