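import Groth.Agent.Lib.FlatLimit.Stage
import Groth.Agent.Lib.FlatLimit.InjCoker
import Groth.Agent.Lib.FlatFP.PullbackHom

/-!
# Injectivity with flat cokernel at a point, along limits of schemes
-/

set_option autoImplicit false
set_option backward.isDefEq.respectTransparency false
set_option linter.style.haveILetI false
universe u

open CategoryTheory Limits AlgebraicGeometry TensorProduct

noncomputable section

namespace GrothLib.FlatLimit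

open GrothLib.LimDesc

attribute [local instance] Algebra.TensorProduct.rightAlgebra

/-- `h` pulled back is injective at `x` and its cokernel is flat over the base at `x`. -/
def InjCokerAt {X Y X₀ : Scheme.{u}} (f : X ⟶ Y) (q : X ⟶ X₀) {F₀ G₀ : X₀.Modules} (h : F₀ ⟶ G₀)
    (x : X) : Prop :=
  Function.Injective ((TopCat.Presheaf.stalkFunctor Ab x).map
      (Scheme.Modules.Hom.mapPresheaf ((Scheme.Modules.pullback q).map h))) ∧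
    FlatMod.IsFlatOverAt f ((Scheme.Modules.pullback q).obj (cokernel h)) x

theorem injCokerAt_iff {X Y X₀ : Scheme.{u}} (f : X ⟶ Y) (q : X ⟶ X₀) {F₀ G₀ : X₀.Modules}
    (h : F₀ ⟶ G₀) (x : X) :
    (Function.Injective ((TopCat.Presheaf.stalkFunctor Ab x).map
        (Scheme.Modules.Hom.mapPresheaf ((Scheme.Modules.pullback q).map h))) ∧
      FlatMod.IsFlatOverAt f (cokernel ((Scheme.Modules.pullback q).map h)) x) ↔
      InjCokerAt f q h x := by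
  haveI : PreservesColimitsOfShape WalkingParallelPair (Scheme.Modules.pullback q) :=
    (Scheme.Modules.pullbackPushforwardAdjunction q).leftAdjoint_preservesColimits.1
  exact and_congr Iff.rfl
    (FlatFP.isFlatOverAt_congr f (PreservesCokernel.iso (Scheme.Modules.pullback q) h).symm x)

variable {X₀ Y₀ Xi Yi : Scheme.{u}} {f₀ : X₀ ⟶ Y₀} {fi : Xi ⟶ Yi} {pY : Yi ⟶ Y₀} {pX : Xi ⟶ X₀}

set_option maxHeartbeats 1000000 in
/-- **Injectivity with flat cokernel at a stage passes to affine base changes.** -/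
theorem injCokerAt_of_stage {X Y : Scheme.{u}} {f : X ⟶ Y} {qY : Y ⟶ Y₀} {qX : X ⟶ X₀}
    (hi : IsPullback pX fi f₀ pY) (hq : IsPullback qX f f₀ qY) [IsAffineHom pY] [IsAffineHom qY]
    [LocallyOfFinitePresentation f₀] {F₀ G₀ : X₀.Modules} [F₀.IsQuasicoherent] [G₀.IsQuasicoherent]
    (h₀ : F₀ ⟶ G₀) (vY : Y ⟶ Yi) (vX : X ⟶ Xi) (e1 : vY ≫ pY = qY) (e2 : vX ≫ pX = qX)
    (e3 : vX ≫ fi = f ≫ vY) (x : X) (hx₀ : InjCokerAt fi pX h₀ (vX x)) : InjCokerAt f qX h₀ x := by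
  haveI := QCoh.isQuasicoherent_cokernel h₀
  refine ⟨?_, flatAt_of_stage hi hq (cokernel h₀) vY vX e1 e2 e3 x hx₀.2⟩
  obtain ⟨hinj, hflat⟩ := hx₀
  obtain ⟨V₀, hV₀, hyV, -⟩ :=
    exists_isAffineOpen_mem_and_subset (show qY (f x) ∈ (⊤ : Y₀.Opens) from trivial)
  have hmem : qX x ∈ f₀ ⁻¹ᵁ V₀ := by
    show f₀ (qX x) ∈ V₀
    rw [← Scheme.Hom.comp_apply, hq.w]
    exact hyV
  obtain ⟨U₀, hU₀, hxU, eU⟩ := exists_isAffineOpen_mem_and_subset hmem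
  let Vi := pY ⁻¹ᵁ V₀
  let VA := qY ⁻¹ᵁ V₀
  let Ui := pX ⁻¹ᵁ U₀ ⊓ fi ⁻¹ᵁ Vi
  let U := qX ⁻¹ᵁ U₀ ⊓ f ⁻¹ᵁ VA
  have hVi : IsAffineOpen Vi := hV₀.preimage pY
  have hVA : IsAffineOpen VA := hV₀.preimage qY
  have hUi : IsAffineOpen Ui := isAffineOpen_square hi le_rfl eU hV₀ hVi hU₀
  have hU : IsAffineOpen U := isAffineOpen_square hq le_rfl eU hV₀ hVA hU₀
  have hx : x ∈ U := ⟨hxU, hyV⟩
  have eVA : VA ≤ vY ⁻¹ᵁ Vi := by rw [← Scheme.Hom.comp_preimage, e1]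
  have eUi : U ≤ vX ⁻¹ᵁ Ui := by
    rw [Scheme.Hom.preimage_inf, ← Scheme.Hom.comp_preimage, ← Scheme.Hom.comp_preimage, e2, e3,
      Scheme.Hom.comp_preimage f vY]
    exact inf_le_inf le_rfl (f.preimage_mono eVA)
  letI : Algebra Γ(Y₀, V₀) Γ(Yi, Vi) := (pY.appLE V₀ Vi le_rfl).hom.toAlgebra
  letI : Algebra Γ(Y₀, V₀) Γ(Y, VA) := (qY.appLE V₀ VA le_rfl).hom.toAlgebra
  letI : Algebra Γ(Y₀, V₀) Γ(X₀, U₀) := (f₀.appLE V₀ U₀ eU).hom.toAlgebra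
  letI : Algebra Γ(Yi, Vi) Γ(Xi, Ui) := (fi.appLE Vi Ui inf_le_right).hom.toAlgebra
  letI : Algebra Γ(Y, VA) Γ(X, U) := (f.appLE VA U inf_le_right).hom.toAlgebra
  letI : Algebra Γ(X₀, U₀) Γ(Xi, Ui) := (pX.appLE U₀ Ui inf_le_left).hom.toAlgebra
  letI : Algebra Γ(X₀, U₀) Γ(X, U) := (qX.appLE U₀ U inf_le_left).hom.toAlgebra
  letI : Algebra Γ(Yi, Vi) Γ(Y, VA) := (vY.appLE Vi VA eVA).hom.toAlgebra
  letI : Algebra Γ(Y₀, V₀) Γ(Xi, Ui) :=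
    ((algebraMap Γ(Yi, Vi) Γ(Xi, Ui)).comp (algebraMap Γ(Y₀, V₀) Γ(Yi, Vi))).toAlgebra
  letI : Algebra Γ(Y₀, V₀) Γ(X, U) :=
    ((algebraMap Γ(Y, VA) Γ(X, U)).comp (algebraMap Γ(Y₀, V₀) Γ(Y, VA))).toAlgebra
  haveI : IsScalarTower Γ(Y₀, V₀) Γ(Yi, Vi) Γ(Xi, Ui) := IsScalarTower.of_algebraMap_eq' rfl
  haveI : IsScalarTower Γ(Y₀, V₀) Γ(Y, VA) Γ(X, U) := IsScalarTower.of_algebraMap_eq' rfl
  haveI : IsScalarTower Γ(Y₀, V₀) Γ(Yi, Vi) Γ(Y, VA) := IsScalarTower.of_algebraMap_eq' (by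
    show (qY.appLE V₀ VA _).hom = (vY.appLE Vi VA eVA).hom.comp (pY.appLE V₀ Vi _).hom
    rw [← CommRingCat.hom_comp, Scheme.Hom.appLE_comp_appLE]
    simp only [e1])
  haveI : IsScalarTower Γ(Y₀, V₀) Γ(X₀, U₀) Γ(Xi, Ui) := IsScalarTower.of_algebraMap_eq' (by
    show (fi.appLE Vi Ui _).hom.comp (pY.appLE V₀ Vi _).hom =
      (pX.appLE U₀ Ui _).hom.comp (f₀.appLE V₀ U₀ _).hom
    rw [← CommRingCat.hom_comp, ← CommRingCat.hom_comp, Scheme.Hom.appLE_comp_appLE,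
      Scheme.Hom.appLE_comp_appLE]
    simp only [hi.w])
  haveI : IsScalarTower Γ(Y₀, V₀) Γ(X₀, U₀) Γ(X, U) := IsScalarTower.of_algebraMap_eq' (by
    show (f.appLE VA U _).hom.comp (qY.appLE V₀ VA _).hom =
      (qX.appLE U₀ U _).hom.comp (f₀.appLE V₀ U₀ _).hom
    rw [← CommRingCat.hom_comp, ← CommRingCat.hom_comp, Scheme.Hom.appLE_comp_appLE,
      Scheme.Hom.appLE_comp_appLE]
    simp only [hq.w])
  haveI : Algebra.IsPushout Γ(Y₀, V₀) Γ(Yi, Vi) Γ(X₀, U₀) Γ(Xi, Ui) :=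
    isPushout_square hi le_rfl eU hV₀ hVi hU₀ rfl rfl rfl rfl
  haveI : Algebra.IsPushout Γ(Y₀, V₀) Γ(Y, VA) Γ(X₀, U₀) Γ(X, U) :=
    isPushout_square hq le_rfl eU hV₀ hVA hU₀ rfl rfl rfl rfl
  haveI : Algebra.FinitePresentation Γ(Y₀, V₀) Γ(X₀, U₀) :=
    HasRingHomProperty.appLE @LocallyOfFinitePresentation f₀ ‹_› ⟨V₀, hV₀⟩ ⟨U₀, hU₀⟩ eU
  letI : Module Γ(Y₀, V₀) Γ(F₀, U₀) := Module.compHom _ (algebraMap Γ(Y₀, V₀) Γ(X₀, U₀))
  haveI : IsScalarTower Γ(Y₀, V₀) Γ(X₀, U₀) Γ(F₀, U₀) :=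
    IsScalarTower.of_algebraMap_smul fun _ _ => rfl
  letI : Module Γ(Y₀, V₀) Γ(G₀, U₀) := Module.compHom _ (algebraMap Γ(Y₀, V₀) Γ(X₀, U₀))
  haveI : IsScalarTower Γ(Y₀, V₀) Γ(X₀, U₀) Γ(G₀, U₀) :=
    IsScalarTower.of_algebraMap_smul fun _ _ => rfl
  letI : Module Γ(Y₀, V₀) Γ(cokernel h₀, U₀) :=
    Module.compHom _ (algebraMap Γ(Y₀, V₀) Γ(X₀, U₀))
  haveI : IsScalarTower Γ(Y₀, V₀) Γ(X₀, U₀) Γ(cokernel h₀, U₀) :=
    IsScalarTower.of_algebraMap_smul fun _ _ => rfl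
  obtain ⟨hex, hsurj⟩ := FlatFP.exact_cokernel_sections h₀ hU₀
  rw [FlatFP.isFlatOverAt_pullback_iff fi pX (cokernel h₀) hU₀ hVi hUi inf_le_left inf_le_right
    (eUi hx) rfl rfl] at hflat
  rw [FlatFP.injective_stalkMap_pullback_iff pX h₀ hU₀ hUi inf_le_left (eUi hx) rfl] at hinj
  rw [FlatFP.injective_stalkMap_pullback_iff qX h₀ hU₀ hU inf_le_left hx rfl]
  intro z hz
  have hcom : (WeakAss.primeAt x hx).comap (vX.appLE Ui U eUi).hom = WeakAss.primeAt (vX x) (eUi hx) :=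
    AssPts.comap_primeAt vX eUi hx
  have hS : ∀ s, vX.appLE Ui U eUi (algebraMap Γ(Yi, Vi) Γ(Xi, Ui) s) =
      algebraMap Γ(Y, VA) Γ(X, U) (algebraMap Γ(Yi, Vi) Γ(Y, VA) s) := fun s => by
    show (fi.appLE Vi Ui _ ≫ vX.appLE Ui U eUi) s = (vY.appLE Vi VA eVA ≫ f.appLE VA U _) s
    rw [Scheme.Hom.appLE_comp_appLE, Scheme.Hom.appLE_comp_appLE]
    simp only [e3]
  have hB : ∀ b, vX.appLE Ui U eUi (algebraMap Γ(X₀, U₀) Γ(Xi, Ui) b) =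
      algebraMap Γ(X₀, U₀) Γ(X, U) b := fun b => by
    show (pX.appLE U₀ Ui _ ≫ vX.appLE Ui U eUi) b = qX.appLE U₀ U _ b
    rw [Scheme.Hom.appLE_comp_appLE]
    simp only [e2]
  refine inj_at_of_stage (A₀ := Γ(Y₀, V₀)) (S := Γ(Yi, Vi)) (T := Γ(Y, VA))
    (vX.appLE Ui U eUi).hom hS hB _ _ hex hsurj (WeakAss.primeAt x hx)
    (FlatFP.flat_localized_prime_congr hcom.symm hflat) (fun w hw => ?_) z hz
  obtain ⟨t, ht, htw⟩ := hinj w hw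
  exact ⟨t, by rw [hcom]; exact ht, htw⟩

variable {I : Type u} [SmallCategory I] [IsCofiltered I] (D : I ⥤ Scheme.{u}) {c : Cone D}
  (hc : IsLimit c) [∀ (i j : I) (f : i ⟶ j), IsAffineHom (D.map f)] {i₀ : I}
  (f₀ : X₀ ⟶ Y₀) (g₀ : Y₀ ⟶ D.obj i₀) {X Y : Scheme.{u}} {f : X ⟶ Y}
  {g : Y ⟶ c.pt} {qY : Y ⟶ Y₀} {qX : X ⟶ X₀}
  (hY : IsPullback qY g g₀ (c.π.app i₀)) (hX : IsPullback qX f f₀ qY)

set_option maxHeartbeats 2000000 in
include hc in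
/-- **Injectivity with flat cokernel at a point of the limit comes from a stage.** -/
theorem exists_stage_injCokerAt [LocallyOfFinitePresentation f₀] {F₀ G₀ : X₀.Modules}
    [F₀.IsQuasicoherent] [G₀.IsQuasicoherent] (hF₀ : CohB1.IsFP F₀) (hG₀ : CohB1.IsFP G₀)
    (h₀ : F₀ ⟶ G₀) (x : X) (hlim : InjCokerAt f qX h₀ x) :
    ∃ j : Over i₀, InjCokerAt ((mapNat D i₀ g₀ (f₀ ≫ g₀) f₀ rfl).app j)
      (pullback.fst (f₀ ≫ g₀) (D.map j.hom)) h₀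
      ((cone D i₀ (f₀ ≫ g₀) (hX.paste_vert hY)).π.app j x) := by
  classical
  haveI := QCoh.isQuasicoherent_cokernel h₀
  obtain ⟨hinj, hflat⟩ := hlim
  haveI := isAffineHom_of_limit D hc g₀ hY
  let E := diag D i₀ g₀
  let cE := cone D i₀ g₀ hY
  have hE : IsLimit cE := isLimitCone D i₀ g₀ hY hc
  haveI (j k : Over i₀) (φ : j ⟶ k) : IsAffineHom (E.map φ) := isAffineHom_map D i₀ g₀ φ
  obtain ⟨V₀, hV₀, hyV, -⟩ :=
    exists_isAffineOpen_mem_and_subset (show qY (f x) ∈ (⊤ : Y₀.Opens) from trivial)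
  have hmem : qX x ∈ f₀ ⁻¹ᵁ V₀ := by
    show f₀ (qX x) ∈ V₀
    rw [← Scheme.Hom.comp_apply, hX.w]
    exact hyV
  obtain ⟨U₀, hU₀, hxU, eU⟩ := exists_isAffineOpen_mem_and_subset hmem
  let VA := qY ⁻¹ᵁ V₀
  let U := qX ⁻¹ᵁ U₀ ⊓ f ⁻¹ᵁ VA
  have hVA : IsAffineOpen VA := hV₀.preimage qY
  have hU : IsAffineOpen U := isAffineOpen_square hX le_rfl eU hV₀ hVA hU₀
  have hx : x ∈ U := ⟨hxU, hyV⟩
  let pY : ∀ j : Over i₀, E.obj j ⟶ Y₀ := fun j => pullback.fst g₀ (D.map j.hom)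
  let Vj : ∀ j : Over i₀, (E.obj j).Opens := fun j => pY j ⁻¹ᵁ V₀
  have hVj (j : Over i₀) : IsAffineOpen (Vj j) :=
    haveI := isAffineHom_fst D i₀ g₀ j
    hV₀.preimage _
  have hπ (j : Over i₀) : cE.π.app j ≫ pY j = qY := π_fst D i₀ g₀ hY j
  have eπ (j : Over i₀) : VA ≤ cE.π.app j ⁻¹ᵁ Vj j := by
    show _ ≤ cE.π.app j ⁻¹ᵁ (pY j ⁻¹ᵁ V₀)
    rw [← Scheme.Hom.comp_preimage, hπ]
  have eπ' (j : Over i₀) : cE.π.app j ⁻¹ᵁ Vj j ≤ VA := by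
    show cE.π.app j ⁻¹ᵁ (pY j ⁻¹ᵁ V₀) ≤ _
    rw [← Scheme.Hom.comp_preimage, hπ]
  have etr {k j : Over i₀} (φ : k ⟶ j) : Vj k ≤ E.map φ ⁻¹ᵁ Vj j := by
    show _ ≤ E.map φ ⁻¹ᵁ (pY j ⁻¹ᵁ V₀)
    rw [← Scheme.Hom.comp_preimage, map_fst]
  letI : Algebra Γ(Y₀, V₀) Γ(Y, VA) := (qY.appLE V₀ VA le_rfl).hom.toAlgebra
  letI (j : Over i₀) : Algebra Γ(Y₀, V₀) Γ(E.obj j, Vj j) := ((pY j).appLE V₀ (Vj j) le_rfl).hom.toAlgebra
  letI (j : Over i₀) : Algebra Γ(E.obj j, Vj j) Γ(Y, VA) :=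
    ((cE.π.app j).appLE (Vj j) VA (eπ j)).hom.toAlgebra
  haveI (j : Over i₀) : IsScalarTower Γ(Y₀, V₀) Γ(E.obj j, Vj j) Γ(Y, VA) :=
    IsScalarTower.of_algebraMap_eq' (by
      show (qY.appLE V₀ VA _).hom =
        ((cE.π.app j).appLE (Vj j) VA (eπ j)).hom.comp ((pY j).appLE V₀ (Vj j) _).hom
      rw [← CommRingCat.hom_comp, Scheme.Hom.appLE_comp_appLE]
      simp only [hπ])
  letI : Algebra Γ(Y₀, V₀) Γ(X₀, U₀) := (f₀.appLE V₀ U₀ eU).hom.toAlgebra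
  letI : Algebra Γ(Y, VA) Γ(X, U) := (f.appLE VA U inf_le_right).hom.toAlgebra
  letI : Algebra Γ(X₀, U₀) Γ(X, U) := (qX.appLE U₀ U inf_le_left).hom.toAlgebra
  letI : Algebra Γ(Y₀, V₀) Γ(X, U) :=
    ((algebraMap Γ(Y, VA) Γ(X, U)).comp (algebraMap Γ(Y₀, V₀) Γ(Y, VA))).toAlgebra
  haveI : IsScalarTower Γ(Y₀, V₀) Γ(Y, VA) Γ(X, U) := IsScalarTower.of_algebraMap_eq' rfl
  haveI : IsScalarTower Γ(Y₀, V₀) Γ(X₀, U₀) Γ(X, U) := IsScalarTower.of_algebraMap_eq' (by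
    show (f.appLE VA U _).hom.comp (qY.appLE V₀ VA _).hom =
      (qX.appLE U₀ U _).hom.comp (f₀.appLE V₀ U₀ _).hom
    rw [← CommRingCat.hom_comp, ← CommRingCat.hom_comp, Scheme.Hom.appLE_comp_appLE,
      Scheme.Hom.appLE_comp_appLE]
    simp only [hX.w])
  haveI : Algebra.IsPushout Γ(Y₀, V₀) Γ(Y, VA) Γ(X₀, U₀) Γ(X, U) :=
    isPushout_square hX le_rfl eU hV₀ hVA hU₀ rfl rfl rfl rfl
  haveI : Algebra.FinitePresentation Γ(Y₀, V₀) Γ(X₀, U₀) :=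
    HasRingHomProperty.appLE @LocallyOfFinitePresentation f₀ ‹_› ⟨V₀, hV₀⟩ ⟨U₀, hU₀⟩ eU
  letI : Module Γ(Y₀, V₀) Γ(F₀, U₀) := Module.compHom _ (algebraMap Γ(Y₀, V₀) Γ(X₀, U₀))
  haveI : IsScalarTower Γ(Y₀, V₀) Γ(X₀, U₀) Γ(F₀, U₀) :=
    IsScalarTower.of_algebraMap_smul fun _ _ => rfl
  letI : Module Γ(Y₀, V₀) Γ(G₀, U₀) := Module.compHom _ (algebraMap Γ(Y₀, V₀) Γ(X₀, U₀))
  haveI : IsScalarTower Γ(Y₀, V₀) Γ(X₀, U₀) Γ(G₀, U₀) :=
    IsScalarTower.of_algebraMap_smul fun _ _ => rfl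
  letI : Module Γ(Y₀, V₀) Γ(cokernel h₀, U₀) :=
    Module.compHom _ (algebraMap Γ(Y₀, V₀) Γ(X₀, U₀))
  haveI : IsScalarTower Γ(Y₀, V₀) Γ(X₀, U₀) Γ(cokernel h₀, U₀) :=
    IsScalarTower.of_algebraMap_smul fun _ _ => rfl
  obtain ⟨hex, hsurj⟩ := FlatFP.exact_cokernel_sections h₀ hU₀
  haveI := FlatFP.finitePresentation_sections F₀ hF₀ hU₀
  haveI := FlatFP.finitePresentation_sections G₀ hG₀ hU₀
  haveI := FlatFP.finitePresentation_cokernel_sections h₀ hG₀ hF₀ hU₀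
  let tr : ∀ {k j : Over i₀}, (k ⟶ j) → Γ(E.obj j, Vj j) →ₐ[Γ(Y₀, V₀)] Γ(E.obj k, Vj k) :=
    fun {k j} φ => { ((E.map φ).appLE (Vj j) (Vj k) (etr φ)).hom with
      commutes' := fun a => by
        show ((pY j).appLE V₀ (Vj j) _ ≫ (E.map φ).appLE (Vj j) (Vj k) (etr φ)) a =
          (pY k).appLE V₀ (Vj k) _ a
        rw [Scheme.Hom.appLE_comp_appLE]
        simp only [pY, E, map_fst] }
  have htr : ∀ {k j : Over i₀} (φ : k ⟶ j) (a : Γ(E.obj j, Vj j)),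
      (cE.π.app k).appLE (Vj k) VA (eπ k) (tr φ a) = (cE.π.app j).appLE (Vj j) VA (eπ j) a := by
    intro k j φ a
    show ((E.map φ).appLE (Vj j) (Vj k) (etr φ) ≫ (cE.π.app k).appLE (Vj k) VA (eπ k)) a = _
    rw [Scheme.Hom.appLE_comp_appLE]
    simp only [show cE.π.app k ≫ E.map φ = cE.π.app j from cE.w φ]
    rfl
  let top : Over i₀ := Over.mk (𝟙 i₀)
  let top : Over i₀ := Over.mk (𝟙 i₀)
  rw [FlatFP.isFlatOverAt_pullback_iff f qX (cokernel h₀) hU₀ hVA hU inf_le_left inf_le_right hx rfl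
    rfl] at hflat
  rw [FlatFP.injective_stalkMap_pullback_iff qX h₀ hU₀ hU inf_le_left hx rfl] at hinj
  let G : Over i₀ → Type u := fun j => Γ(E.obj j, Vj j)
  have hdir : ∀ i i' : Over i₀, ∃ j, ∃ (φ : G i →ₐ[Γ(Y₀, V₀)] G j) (φ' : G i' →ₐ[Γ(Y₀, V₀)] G j),
      (∀ x, algebraMap (G j) Γ(Y, VA) (φ x) = algebraMap (G i) Γ(Y, VA) x) ∧
      ∀ x, algebraMap (G j) Γ(Y, VA) (φ' x) = algebraMap (G i') Γ(Y, VA) x := fun i i' =>
    ⟨IsCofiltered.min i i', tr (IsCofiltered.minToLeft i i'), tr (IsCofiltered.minToRight i i'),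
      htr (IsCofiltered.minToLeft i i'), htr (IsCofiltered.minToRight i i')⟩
  have hlift : ∀ T : Finset Γ(Y, VA), ∃ i, (T : Set Γ(Y, VA)) ⊆ Set.range (algebraMap (G i) Γ(Y, VA)) :=
    (fun T => by
      induction T using Finset.induction_on with
      | empty => exact ⟨top, by simp⟩
      | insert b T _ ih =>
        obtain ⟨j, hj⟩ := ih
        obtain ⟨k, φ, e, t, ht⟩ := exists_appLE_π_eq E cE hE (hVj top)
          (Y.presheaf.map (homOfLE (eπ' top)).op b)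
        let t' : Γ(E.obj k, Vj k) := (E.obj k).presheaf.map (homOfLE (etr φ)).op t
        have ht' : (cE.π.app k).appLE (Vj k) VA (eπ k) t' = b := by
          refine (appLE_map_apply (cE.π.app k) (eπ k) (etr φ) t).trans ?_
          refine (appLE_restrict (cE.π.app k) e (eπ top) t).symm.trans ?_
          refine (congrArg (Y.presheaf.map (homOfLE (eπ top)).op) ht).trans ?_
          show (Y.presheaf.map (homOfLE (eπ' top)).op ≫ Y.presheaf.map (homOfLE (eπ top)).op) b = b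
          rw [← Functor.map_comp]
          show Y.presheaf.map (𝟙 _) b = b
          simp
        refine ⟨IsCofiltered.min j k, fun x hx => ?_⟩
        rcases Finset.mem_insert.1 (Finset.mem_coe.1 hx) with rfl | hx
        · exact ⟨tr (IsCofiltered.minToRight j k) t', (htr (IsCofiltered.minToRight j k) t').trans ht'⟩
        · obtain ⟨y, hy⟩ := hj (Finset.mem_coe.2 hx)
          exact ⟨tr (IsCofiltered.minToLeft j k) y, (htr (IsCofiltered.minToLeft j k) y).trans hy⟩)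
  have heq : ∀ i (p : Finset (G i × G i)),
      (∀ x ∈ p, algebraMap (G i) Γ(Y, VA) x.1 = algebraMap (G i) Γ(Y, VA) x.2) →
      ∃ j, ∃ ψ : G i →ₐ[Γ(Y₀, V₀)] G j,
        (∀ x, algebraMap (G j) Γ(Y, VA) (ψ x) = algebraMap (G i) Γ(Y, VA) x) ∧
        ∀ x ∈ p, ψ x.1 = ψ x.2 :=
    (fun j p hp => by
      induction p using Finset.induction_on with
      | empty => exact ⟨j, AlgHom.id _ _, fun _ => rfl, by simp⟩
      | insert b p _ ih =>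
        obtain ⟨k, ψ, hψ, hψp⟩ := ih fun x hx => hp x (Finset.mem_insert_of_mem hx)
        have hb : (cE.π.app k).app (Vj k) (ψ b.1) = (cE.π.app k).app (Vj k) (ψ b.2) := by
          have h2 : (cE.π.app k).appLE (Vj k) VA (eπ k) (ψ b.1) =
              (cE.π.app k).appLE (Vj k) VA (eπ k) (ψ b.2) :=
            (hψ b.1).trans ((hp b (Finset.mem_insert_self b p)).trans (hψ b.2).symm)
          rw [Scheme.Hom.app_eq_appLE]
          exact (appLE_restrict _ (eπ k) (eπ' k) _).symm.trans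
            ((congrArg (Y.presheaf.map (homOfLE (eπ' k)).op) h2).trans
              (appLE_restrict _ (eπ k) (eπ' k) _))
        obtain ⟨l, φ, hl⟩ := exists_app_map_eq_map_of_isLimit E cE hE (hVj k).isCompact
          (ψ b.1) (ψ b.2) hb
        refine ⟨l, (tr φ).comp ψ, fun x => (htr φ (ψ x)).trans (hψ x), fun x hx => ?_⟩
        rcases Finset.mem_insert.1 hx with rfl | hx
        · exact (appLE_restrict (E.map φ) le_rfl (etr φ) _).symm.trans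
            ((congrArg ((E.obj l).presheaf.map (homOfLE (etr φ)).op)
              (by rw [← Scheme.Hom.app_eq_appLE]; exact hl)).trans
              (appLE_restrict (E.map φ) le_rfl (etr φ) _))
        · rw [AlgHom.comp_apply, AlgHom.comp_apply, hψp x hx])
  let A := Γ(Y, VA)
  let eL := (Algebra.IsPushout.equiv Γ(Y₀, V₀) A Γ(X₀, U₀) Γ(X, U)).toRingEquiv
  let Q := (WeakAss.primeAt x hx).comap eL.toRingHom
  have eL_tmul : ∀ (a : A) (b : Γ(X₀, U₀)),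
      eL (a ⊗ₜ b) = algebraMap A Γ(X, U) a * algebraMap Γ(X₀, U₀) Γ(X, U) b := fun a b =>
    Algebra.IsPushout.equiv_tmul _ _ _ _ a b
  -- the limit, on the tensor product
  have hsymm : Q.comap eL.symm.toRingHom = WeakAss.primeAt x hx := by
    ext y
    show eL (eL.symm y) ∈ WeakAss.primeAt x hx ↔ y ∈ WeakAss.primeAt x hx
    rw [eL.apply_symm_apply]
  have hSL : ∀ a : A, eL.symm.toRingHom (algebraMap A Γ(X, U) a) =
      algebraMap A (A ⊗[Γ(Y₀, V₀)] Γ(X₀, U₀)) (algebraMap A A a) := fun a => by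
    apply eL.injective
    show eL (eL.symm _) = eL (a ⊗ₜ 1)
    rw [eL.apply_symm_apply, eL_tmul, map_one, mul_one]
  have hBL : ∀ b, eL.symm.toRingHom (algebraMap Γ(X₀, U₀) Γ(X, U) b) =
      algebraMap Γ(X₀, U₀) (A ⊗[Γ(Y₀, V₀)] Γ(X₀, U₀)) b := fun b => by
    apply eL.injective
    show eL (eL.symm _) = eL (1 ⊗ₜ b)
    rw [eL.apply_symm_apply, eL_tmul, map_one, one_mul]
  have hinjQ : ∀ z, (QCoh.appLinear h₀ U₀).baseChange (A ⊗[Γ(Y₀, V₀)] Γ(X₀, U₀)) z = 0 →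
      ∃ t ∉ Q, t • z = 0 :=
    inj_at_of_stage (A₀ := Γ(Y₀, V₀)) (S := A) (T := A) eL.symm.toRingHom hSL hBL _ _ hex hsurj Q
      (FlatFP.flat_localized_prime_congr hsymm.symm hflat) fun w hw => by
        obtain ⟨t, ht, htw⟩ := hinj w hw
        exact ⟨t, by rw [hsymm]; exact ht, htw⟩
  obtain ⟨i, hi⟩ := exists_stage_flat_at' (A₀ := Γ(Y₀, V₀)) (A := A) (B₀ := Γ(X₀, U₀))
    (B := Γ(X, U)) Γ(cokernel h₀, U₀) G hlift heq (WeakAss.primeAt x hx) hflat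
  have hiQ := hi (G i ⊗[Γ(Y₀, V₀)] Γ(X₀, U₀)) (eL.toRingHom.comp (toLimit A G i).toRingHom)
    (fun s => by
      show eL (toLimit A G i (s ⊗ₜ 1)) = _
      simp [toLimit, eL_tmul])
    (fun b => by
      show eL (toLimit A G i (1 ⊗ₜ b)) = _
      simp [toLimit, eL_tmul])
  obtain ⟨j, hjflat, hjinj⟩ := exists_stage_inj (A := A) G hdir hlift heq
    (QCoh.appLinear h₀ U₀) (QCoh.appLinear (cokernel.π h₀) U₀) hex hsurj Q i
    (FlatFP.flat_localized_prime_congr (Ideal.comap_comap (I := WeakAss.primeAt x hx) (toLimit A G i).toRingHom eL.toRingHom).symm hiQ) hinjQ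
  refine ⟨j, ?_⟩
  let Xj := pullback (f₀ ≫ g₀) (D.map j.hom)
  let fj : Xj ⟶ E.obj j := (mapNat D i₀ g₀ (f₀ ≫ g₀) f₀ rfl).app j
  let pX : Xj ⟶ X₀ := pullback.fst (f₀ ≫ g₀) (D.map j.hom)
  let vX : X ⟶ Xj := (cone D i₀ (f₀ ≫ g₀) (hX.paste_vert hY)).π.app j
  have hsq : IsPullback pX fj f₀ (pY j) := isPullback_mapNat D i₀ g₀ (f₀ ≫ g₀) f₀ rfl j
  have e2 : vX ≫ pX = qX := π_fst _ _ _ _ j
  have e3 : vX ≫ fj = f ≫ cE.π.app j :=
    (isPullback_π D i₀ g₀ (f₀ ≫ g₀) hY f₀ rfl (hX.paste_vert hY) f hX.w.symm rfl j).w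
  let Uj := pX ⁻¹ᵁ U₀ ⊓ fj ⁻¹ᵁ Vj j
  have hUj : IsAffineOpen Uj := isAffineOpen_square hsq le_rfl eU hV₀ (hVj j) hU₀
  have eUj : U ≤ vX ⁻¹ᵁ Uj := by
    rw [Scheme.Hom.preimage_inf, ← Scheme.Hom.comp_preimage, ← Scheme.Hom.comp_preimage, e2, e3,
      Scheme.Hom.comp_preimage f (cE.π.app j)]
    exact inf_le_inf le_rfl (f.preimage_mono (eπ j))
  letI : Algebra Γ(E.obj j, Vj j) Γ(Xj, Uj) := (fj.appLE (Vj j) Uj inf_le_right).hom.toAlgebra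
  letI : Algebra Γ(X₀, U₀) Γ(Xj, Uj) := (pX.appLE U₀ Uj inf_le_left).hom.toAlgebra
  letI : Algebra Γ(Y₀, V₀) Γ(Xj, Uj) :=
    ((algebraMap Γ(E.obj j, Vj j) Γ(Xj, Uj)).comp (algebraMap Γ(Y₀, V₀) Γ(E.obj j, Vj j))).toAlgebra
  haveI : IsScalarTower Γ(Y₀, V₀) Γ(E.obj j, Vj j) Γ(Xj, Uj) := IsScalarTower.of_algebraMap_eq' rfl
  haveI : IsScalarTower Γ(Y₀, V₀) Γ(X₀, U₀) Γ(Xj, Uj) := IsScalarTower.of_algebraMap_eq' (by
    show (fj.appLE (Vj j) Uj _).hom.comp ((pY j).appLE V₀ (Vj j) _).hom =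
      (pX.appLE U₀ Uj _).hom.comp (f₀.appLE V₀ U₀ _).hom
    rw [← CommRingCat.hom_comp, ← CommRingCat.hom_comp, Scheme.Hom.appLE_comp_appLE,
      Scheme.Hom.appLE_comp_appLE]
    simp only [hsq.w])
  haveI : Algebra.IsPushout Γ(Y₀, V₀) Γ(E.obj j, Vj j) Γ(X₀, U₀) Γ(Xj, Uj) :=
    isPushout_square hsq le_rfl eU hV₀ (hVj j) hU₀ rfl rfl rfl rfl
  let ej := (Algebra.IsPushout.equiv Γ(Y₀, V₀) (G j) Γ(X₀, U₀) Γ(Xj, Uj)).toRingEquiv
  have ej_tmul : ∀ (a : G j) (b : Γ(X₀, U₀)),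
      ej (a ⊗ₜ b) = algebraMap (G j) Γ(Xj, Uj) a * algebraMap Γ(X₀, U₀) Γ(Xj, Uj) b := fun a b =>
    Algebra.IsPushout.equiv_tmul _ _ _ _ a b
  have hSj : ∀ a : G j, ej.toRingHom (algebraMap (G j) (G j ⊗[Γ(Y₀, V₀)] Γ(X₀, U₀)) a) =
      algebraMap (G j) Γ(Xj, Uj) (algebraMap (G j) (G j) a) := fun a => by
    show ej (a ⊗ₜ 1) = _
    rw [ej_tmul, map_one, mul_one]
    rfl
  have hBj : ∀ b, ej.toRingHom (algebraMap Γ(X₀, U₀) (G j ⊗[Γ(Y₀, V₀)] Γ(X₀, U₀)) b) =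
      algebraMap Γ(X₀, U₀) Γ(Xj, Uj) b := fun b => by
    show ej (1 ⊗ₜ b) = _
    rw [ej_tmul, map_one, one_mul]
  have hprime : (WeakAss.primeAt (vX x) (eUj hx)).comap ej.toRingHom =
      Q.comap (toLimit A G j).toRingHom := by
    rw [← AssPts.comap_primeAt vX eUj hx, Ideal.comap_comap, Ideal.comap_comap]
    congr 1
    refine RingHom.ext fun z => ?_
    show vX.appLE Uj U eUj (ej z) = eL (toLimit A G j z)
    induction z using TensorProduct.induction_on with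
    | zero => simp
    | add a b ha hb => simp only [map_add, ha, hb]
    | tmul a b =>
      rw [ej_tmul, map_mul]
      show _ = eL ((cE.π.app j).appLE (Vj j) VA (eπ j) a ⊗ₜ b)
      rw [eL_tmul]
      congr 1
      · show (fj.appLE (Vj j) Uj _ ≫ vX.appLE Uj U eUj) a =
          ((cE.π.app j).appLE (Vj j) VA (eπ j) ≫ f.appLE VA U _) a
        rw [Scheme.Hom.appLE_comp_appLE, Scheme.Hom.appLE_comp_appLE]
        simp only [e3]
        rfl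
      · show (pX.appLE U₀ Uj _ ≫ vX.appLE Uj U eUj) b = qX.appLE U₀ U _ b
        rw [Scheme.Hom.appLE_comp_appLE]
        simp only [e2]
  have hfl := FlatFP.flat_localized_prime_congr hprime.symm hjflat
  refine ⟨?_, ?_⟩
  · refine (FlatFP.injective_stalkMap_pullback_iff pX h₀ hU₀ hUj inf_le_left (eUj hx) rfl).mpr ?_
    exact inj_at_of_stage (A₀ := Γ(Y₀, V₀)) (S := G j) (T := G j) ej.toRingHom hSj hBj _ _ hex hsurj
      (WeakAss.primeAt (vX x) (eUj hx)) hfl fun w hw => by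
        obtain ⟨t, ht, htw⟩ := hjinj w hw
        exact ⟨t, by rw [hprime]; exact ht, htw⟩
  · refine (FlatFP.isFlatOverAt_pullback_iff fj pX (cokernel h₀) hU₀ (hVj j) hUj inf_le_left
      inf_le_right (eUj hx) rfl rfl).mpr ?_
    exact flat_at_of_stage (A₀ := Γ(Y₀, V₀)) (A := G j) (B₀ := Γ(X₀, U₀)) (B := Γ(Xj, Uj)) (S := G j)
      (BS := G j ⊗[Γ(Y₀, V₀)] Γ(X₀, U₀)) Γ(cokernel h₀, U₀) ej.toRingHom hSj hBj _ hfl

end GrothLib.FlatLimit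

end
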